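import Cfsg.Agent.Leech.Model

set_option autoImplicit false
set_option Elab.async false
set_option maxRecDepth 100000
set_option linter.all false

namespace Cfsg.Agent.HSC
open Cfsg.Agent.CGT

open Cfsg.Agent.Leech
noncomputable def A0 : List (List ℤ) := [[8, 0, 0, 0, 0, 0, 0, 0, 0, 0, 0, 0, 0, 0, 0, 0, 0, 0, 0, 0, 0, 0, 0, 0], [0, 8, 0, 0, 0, 0, 0, 0, 0, 0, 0, 0, 0, 0, 0, 0, 0, 0, 0, 0, 0, 0, 0, 0], [0, 0, 0, 0, 0, 0, 0, 0, 0, 8, 0, 0, 0, 0, 0, 0, 0, 0, 0, 0, 0, 0, 0, 0], [0, 0, 0, 0, 0, 0, 0, 0, 0, 0, 0, 0, 0, 0, 0, 0, 0, 8, 0, 0, 0, 0, 0, 0], [0, 0, 0, 0, 8, 0, 0, 0, 0, 0, 0, 0, 0, 0, 0, 0, 0, 0, 0, 0, 0, 0, 0, 0], [0, 0, 0, 0, 0, 0, 0, 0, 0, 0, 0, 0, 0, 0, 8, 0, 0, 0, 0, 0, 0, 0, 0, 0], [0, 0, 0, 0, 0, 0, 8, 0, 0, 0, 0, 0, 0, 0, 0, 0, 0, 0, 0, 0, 0, 0, 0, 0], [0, 0, 0, 0, 0,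 0, 0, 0, 0, 0, 0, 0, 0, 0, 0, 0, 0, 0, 8, 0, 0, 0, 0, 0], [0, 0, 0, 0, 0, 0, 0, 0, 0, 0, 0, 0, 0, 0, 0, 0, 0, 0, 0, 0, 0, 8, 0, 0], [0, 0, 0, 0, 0, 0, 0, 0, 0, 0, 0, 0, 0, 0, 0, 0, 0, 0, 0, 0, 8, 0, 0, 0], [0, 0, 0, 0, 0, 0, 0, 0, 0, 0, 0, 0, 0, 0, 0, 8, 0, 0, 0, 0, 0, 0, 0, 0], [0, 0, 0, 0, 0, 0, 0, 0, 8, 0, 0, 0, 0, 0, 0, 0, 0, 0, 0, 0, 0, 0, 0, 0], [0, 0, 0, 0, 0, 0, 0, 8, 0, 0, 0, 0, 0, 0, 0, 0, 0, 0, 0, 0, 0, 0, 0, 0], [0, 0, 0, 0, 0, 8, 0, 0, 0, 0, 0, 0, 0, 0, 0, 0, 0, 0, 0, 0, 0, 0, 0, 0], [0, 0, 0, 0, 0, 0, 0, 0, 0, 0, 0, 0, 0, 8, 0, 0, 0, 0, 0, 0, 0, 0, 0, 0], [0, 0, 0, 0, 0, 0, 0, 0, 0, 0, 0, 0, 0, 0, 0, 0, 0, 0, 0, 0, 0, 0, 0, 8], [0, 0, 0, 8, 0, 0, 0, 0, 0, 0, 0, 0, 0, 0, 0, 0, 0, 0, 0, 0, 0, 0, 0, 0], [0, 0, 0, 0, 0, 0, 0, 0, 0, 0, 0, 0, 0, 0, 0, 0, 8, 0, 0, 0, 0, 0,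 0, 0], [0, 0, 0, 0, 0, 0, 0, 0, 0, 0, 0, 0, 8, 0, 0, 0, 0, 0, 0, 0, 0, 0, 0, 0], [0, 0, 0, 0, 0, 0, 0, 0, 0, 0, 0, 0, 0, 0, 0, 0, 0, 0, 0, 8, 0, 0, 0, 0], [0, 0, 8, 0, 0, 0, 0, 0, 0, 0, 0, 0, 0, 0, 0, 0, 0, 0, 0, 0, 0, 0, 0, 0], [0, 0, 0, 0, 0, 0, 0, 0, 0, 0, 0, 8, 0, 0, 0, 0, 0, 0, 0, 0, 0, 0, 0, 0], [0, 0, 0, 0, 0, 0, 0, 0, 0, 0, 0, 0, 0, 0, 0, 0, 0, 0, 0, 0, 0, 0, 8, 0], [0, 0, 0, 0, 0, 0, 0, 0, 0, 0, 8, 0, 0, 0, 0, 0, 0, 0, 0, 0, 0, 0, 0, 0]]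
noncomputable def A1 : List (List ℤ) := [[8, 0, 0, 0, 0, 0, 0, 0, 0, 0, 0, 0, 0, 0, 0, 0, 0, 0, 0, 0, 0, 0, 0, 0], [0, 8, 0, 0, 0, 0, 0, 0, 0, 0, 0, 0, 0, 0, 0, 0, 0, 0, 0, 0, 0, 0, 0, 0], [0, 0, 0, 8, 0, 0, 0, 0, 0, 0, 0, 0, 0, 0, 0, 0, 0, 0, 0, 0, 0, 0, 0, 0], [0, 0, 0, 0, 0, 0, 0, 0, 0, 0, 0, 0, 0, 8, 0, 0, 0, 0, 0, 0, 0, 0, 0, 0], [0, 0, 0, 0, 0, 0, 0, 0, 0, 0, 0, 0, 0, 0, 0, 0, 0, 0, 0, 0, 0, 0, 8, 0], [0, 0, 0, 0, 0, 0, 0, 0, 0, 0, 0, 0, 0, 0, 0, 0, 8, 0, 0, 0, 0, 0, 0, 0], [0, 0, 0, 0, 0, 0, 0, 0, 0, 0, 0, 8, 0, 0, 0, 0, 0, 0, 0, 0, 0, 0, 0, 0], [0, 0, 0, 0, 0, 0, 0, 8, 0, 0, 0, 0, 0, 0, 0, 0, 0, 0, 0, 0, 0, 0, 0, 0], [0, 0, 0, 0, 0, 0, 0, 0, 0, 0, 0, 0, 0, 0, 0, 0, 0, 0, 0, 0, 0, 8, 0, 0], [0, 0, 8, 0, 0, 0, 0, 0, 0, 0, 0, 0, 0, 0, 0, 0, 0, 0, 0, 0, 0, 0, 0, 0], [0, 0, 0,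 0, 0, 0, 0, 0, 0, 0, 0, 0, 0, 0, 0, 0, 0, 0, 0, 0, 0, 0, 0, 8], [0, 0, 0, 0, 0, 0, 0, 0, 8, 0, 0, 0, 0, 0, 0, 0, 0, 0, 0, 0, 0, 0, 0, 0], [0, 0, 0, 0, 0, 0, 0, 0, 0, 0, 0, 0, 0, 0, 0, 0, 0, 0, 0, 8, 0, 0, 0, 0], [0, 0, 0, 0, 0, 0, 0, 0, 0, 8, 0, 0, 0, 0, 0, 0, 0, 0, 0, 0, 0, 0, 0, 0], [0, 0, 0, 0, 0, 0, 0, 0, 0, 0, 0, 0, 0, 0, 0, 0, 0, 0, 0, 0, 8, 0, 0, 0], [0, 0, 0, 0, 0, 0, 0, 0, 0, 0, 0, 0, 0, 0, 8, 0, 0, 0, 0, 0, 0, 0, 0, 0], [0, 0, 0, 0, 0, 0, 0, 0, 0, 0, 8, 0, 0, 0, 0, 0, 0, 0, 0, 0, 0, 0, 0, 0], [0, 0, 0, 0, 0, 0, 0, 0, 0, 0, 0, 0, 0, 0, 0, 8, 0, 0, 0, 0, 0, 0, 0, 0], [0, 0, 0, 0, 0, 0, 0, 0, 0, 0, 0, 0, 0, 0, 0, 0, 0, 0, 8, 0, 0, 0, 0, 0], [0, 0, 0, 0, 0, 0, 0, 0, 0, 0, 0, 0, 8, 0, 0, 0, 0, 0, 0, 0, 0, 0, 0, 0], [0, 0, 0, 0, 0, 0, 0, 0, 0, 0, 0, 0, 0, 0, 0, 0, 0, 8, 0, 0,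 0, 0, 0, 0], [0, 0, 0, 0, 0, 0, 8, 0, 0, 0, 0, 0, 0, 0, 0, 0, 0, 0, 0, 0, 0, 0, 0, 0], [0, 0, 0, 0, 8, 0, 0, 0, 0, 0, 0, 0, 0, 0, 0, 0, 0, 0, 0, 0, 0, 0, 0, 0], [0, 0, 0, 0, 0, 8, 0, 0, 0, 0, 0, 0, 0, 0, 0, 0, 0, 0, 0, 0, 0, 0, 0, 0]]
noncomputable def A2 : List (List ℤ) := [[8, 0, 0, 0, 0, 0, 0, 0, 0, 0, 0, 0, 0, 0, 0, 0, 0, 0, 0, 0, 0, 0, 0, 0], [0, 8, 0, 0, 0, 0, 0, 0, 0, 0, 0, 0, 0, 0, 0, 0, 0, 0, 0, 0, 0, 0, 0, 0], [0, 0, 0, 0, 0, 0, 0, 0, 0, 0, 0, 0, 0, 0, 0, 8, 0, 0, 0, 0, 0, 0, 0, 0], [0, 0, 0, 8, 0, 0, 0, 0, 0, 0, 0, 0, 0, 0, 0, 0, 0, 0, 0, 0, 0, 0, 0, 0], [0, 0, 0, 0, 0, 0, 8, 0, 0, 0, 0, 0, 0, 0, 0, 0, 0, 0, 0, 0, 0, 0, 0, 0], [0, 0, 0, 0, 0, 0, 0, 0, 0, 0, 0, 0, 0, 0, 0, 0, 0, 0, 0, 8, 0, 0, 0, 0], [0, 0, 0, 0, 8, 0, 0, 0, 0, 0, 0, 0, 0, 0, 0, 0, 0, 0, 0, 0, 0, 0, 0,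 0], [0, 0, 0, 0, 0, 0, 0, 0, 0, 0, 0, 0, 0, 0, 0, 0, 0, 0, 0, 0, 0, 0, 0, 8], [0, 0, 0, 0, 0, 0, 0, 0, 0, 0, 0, 0, 0, 0, 0, 0, 0, 0, 0, 0, 0, 8, 0, 0], [0, 0, 0, 0, 0, 0, 0, 0, 0, 0, 0, 0, 0, 0, 0, 0, 8, 0, 0, 0, 0, 0, 0, 0], [0, 0, 0, 0, 0, 0, 0, 0, 0, 0, 0, 0, 0, 0, 0, 0, 0, 8, 0, 0, 0, 0, 0, 0], [0, 0, 0, 0, 0, 0, 0, 0, 0, 0, 0, 8, 0, 0, 0, 0, 0, 0, 0, 0, 0, 0, 0, 0], [0, 0, 0, 0, 0, 0, 0, 0, 0, 0, 0, 0, 0, 0, 0, 0, 0, 0, 0, 0, 8, 0, 0, 0], [0, 0, 0, 0, 0, 0, 0, 0, 0, 0, 0, 0, 0, 8, 0, 0, 0, 0, 0, 0, 0, 0, 0, 0], [0, 0, 0, 0, 0, 0, 0, 0, 0, 0, 0, 0, 0, 0, 8, 0, 0, 0, 0, 0, 0, 0, 0, 0], [0, 0, 8, 0, 0, 0, 0, 0, 0, 0, 0, 0, 0, 0, 0, 0, 0, 0, 0, 0, 0, 0, 0, 0], [0, 0, 0, 0, 0, 0, 0, 0, 0, 8, 0, 0, 0, 0, 0, 0, 0, 0, 0, 0, 0, 0, 0, 0], [0, 0, 0, 0, 0, 0, 0, 0, 0, 0, 8, 0, 0, 0, 0,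 0, 0, 0, 0, 0, 0, 0, 0, 0], [0, 0, 0, 0, 0, 0, 0, 0, 0, 0, 0, 0, 0, 0, 0, 0, 0, 0, 8, 0, 0, 0, 0, 0], [0, 0, 0, 0, 0, 8, 0, 0, 0, 0, 0, 0, 0, 0, 0, 0, 0, 0, 0, 0, 0, 0, 0, 0], [0, 0, 0, 0, 0, 0, 0, 0, 0, 0, 0, 0, 8, 0, 0, 0, 0, 0, 0, 0, 0, 0, 0, 0], [0, 0, 0, 0, 0, 0, 0, 0, 8, 0, 0, 0, 0, 0, 0, 0, 0, 0, 0, 0, 0, 0, 0, 0], [0, 0, 0, 0, 0, 0, 0, 0, 0, 0, 0, 0, 0, 0, 0, 0, 0, 0, 0, 0, 0, 0, 8, 0], [0, 0, 0, 0, 0, 0, 0, 8, 0, 0, 0, 0, 0, 0, 0, 0, 0, 0, 0, 0, 0, 0, 0, 0]]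
noncomputable def A3 : List (List ℤ) := [[8, 0, 0, 0, 0, 0, 0, 0, 0, 0, 0, 0, 0, 0, 0, 0, 0, 0, 0, 0, 0, 0, 0, 0], [0, 8, 0, 0, 0, 0, 0, 0, 0, 0, 0, 0, 0, 0, 0, 0, 0, 0, 0, 0, 0, 0, 0, 0], [0, 0, 8, 0, 0, 0, 0, 0, 0, 0, 0, 0, 0, 0, 0, 0, 0, 0, 0, 0, 0, 0, 0, 0], [0, 0, 0, 0, 0, 0, 0, 0, 0, 0, 0, 0, 8, 0, 0, 0, 0, 0, 0, 0, 0, 0, 0, 0], [0, 0, 0, 0, 8, 0, 0, 0, 0, 0, 0, 0, 0, 0, 0, 0, 0, 0, 0, 0, 0, 0, 0, 0], [0, 0, 0, 0, 0, 0, 8, 0, 0, 0, 0, 0, 0, 0, 0, 0, 0, 0, 0, 0, 0, 0, 0, 0], [0, 0, 0, 0, 0, 8, 0, 0, 0, 0, 0, 0, 0, 0, 0, 0, 0, 0, 0, 0, 0, 0, 0, 0], [0, 0, 0, 0, 0, 0, 0, 8, 0, 0, 0, 0, 0, 0, 0, 0, 0, 0, 0, 0, 0, 0, 0, 0], [0, 0, 0, 0, 0, 0, 0, 0, 0, 0, 0, 0, 0, 0, 0, 0, 8, 0, 0, 0, 0, 0, 0, 0], [0, 0, 0, 0, 0, 0, 0, 0, 0, 8, 0, 0, 0, 0, 0, 0, 0, 0, 0, 0, 0, 0, 0, 0], [0, 0, 0,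 0, 0, 0, 0, 0, 0, 0, 0, 0, 0, 0, 0, 0, 0, 0, 0, 0, 0, 0, 0, 8], [0, 0, 0, 0, 0, 0, 0, 0, 0, 0, 0, 8, 0, 0, 0, 0, 0, 0, 0, 0, 0, 0, 0, 0], [0, 0, 0, 8, 0, 0, 0, 0, 0, 0, 0, 0, 0, 0, 0, 0, 0, 0, 0, 0, 0, 0, 0, 0], [0, 0, 0, 0, 0, 0, 0, 0, 0, 0, 0, 0, 0, 0, 0, 0, 0, 0, 0, 8, 0, 0, 0, 0], [0, 0, 0, 0, 0, 0, 0, 0, 0, 0, 0, 0, 0, 0, 8, 0, 0, 0, 0, 0, 0, 0, 0, 0], [0, 0, 0, 0, 0, 0, 0, 0, 0, 0, 0, 0, 0, 0, 0, 0, 0, 0, 0, 0, 8, 0, 0, 0], [0, 0, 0, 0, 0, 0, 0, 0, 8, 0, 0, 0, 0, 0, 0, 0, 0, 0, 0, 0, 0, 0, 0, 0], [0, 0, 0, 0, 0, 0, 0, 0, 0, 0, 0, 0, 0, 0, 0, 0, 0, 0, 0, 0, 0, 0, 8, 0], [0, 0, 0, 0, 0, 0, 0, 0, 0, 0, 0, 0, 0, 0, 0, 0, 0, 0, 0, 0, 0, 8, 0, 0], [0, 0, 0, 0, 0, 0, 0, 0, 0, 0, 0, 0, 0, 8, 0, 0, 0, 0, 0, 0, 0, 0, 0, 0], [0, 0, 0, 0, 0, 0, 0, 0, 0, 0, 0, 0, 0, 0, 0, 8, 0, 0, 0, 0,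 0, 0, 0, 0], [0, 0, 0, 0, 0, 0, 0, 0, 0, 0, 0, 0, 0, 0, 0, 0, 0, 0, 8, 0, 0, 0, 0, 0], [0, 0, 0, 0, 0, 0, 0, 0, 0, 0, 0, 0, 0, 0, 0, 0, 0, 8, 0, 0, 0, 0, 0, 0], [0, 0, 0, 0, 0, 0, 0, 0, 0, 0, 8, 0, 0, 0, 0, 0, 0, 0, 0, 0, 0, 0, 0, 0]]
noncomputable def A4 : List (List ℤ) := [[5, -3, -3, 1, 1, 1, 1, 1, 1, 1, 1, 1, 1, 1, 1, 1, 1, 1, 1, 1, 1, 1, 1, 1], [-3, 5, -3, 1, 1, 1, 1, 1, 1, 1, 1, 1, 1, 1, 1, 1, 1, 1, 1, 1, 1, 1, 1, 1], [-3, -3, 5, 1, 1, 1, 1, 1, 1, 1, 1, 1, 1, 1, 1, 1, 1, 1, 1, 1, 1, 1, 1, 1], [1, 1, 1, 1, 1, 1, 1, 1, 1, 1, 1, 1, 1, 1, -3, 1, -3, 1, -3, -3, -3, 1, 1, 1], [1, 1, 1, 1, -3, 1, 1, 1, 1, 1, 1, 1, 1, -3, 1, 1, -3, 1, 1, 1, 1, 1, -3, -3], [1, 1, 1, 1, 1, 1, -3, 1, 1, 1, -3, 1, -3, 1, -3, 1, 1, 1, 1, 1, 1, 1, -3, 1], [1, 1, 1, 1, 1, -3, -3, 1, -3, -3, 1, 1, 1, 1, 1,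 1, -3, 1, 1, 1, 1, 1, 1, 1], [1, 1, 1, 1, 1, 1, 1, 1, 1, -3, -3, 1, 1, 1, 1, -3, 1, 1, 1, 1, -3, 1, 1, -3], [1, 1, 1, 1, 1, 1, -3, 1, 1, 1, 1, -3, 1, -3, 1, 1, 1, -3, 1, 1, -3, 1, 1, 1], [1, 1, 1, 1, 1, 1, -3, -3, 1, 1, 1, 1, 1, 1, 1, 1, 1, 1, 1, -3, 1, -3, 1, -3], [1, 1, 1, 1, 1, -3, 1, -3, 1, 1, -3, 1, 1, -3, 1, 1, 1, 1, -3, 1, 1, 1, 1, 1], [1, 1, 1, 1, 1, 1, 1, 1, -3, 1, 1, -3, -3, 1, 1, 1, 1, 1, -3, 1, 1, 1, 1, -3], [1, 1, 1, 1, 1, -3, 1, 1, 1, 1, 1, -3, 1, 1, 1, -3, 1, 1, 1, -3, 1, 1, -3, 1], [1, 1, 1, 1, -3, 1, 1, 1, -3, 1, -3, 1, 1, 1, 1, 1, 1, -3, 1, -3, 1, 1, 1, 1], [1, 1, 1, -3, 1, -3, 1, 1, 1, 1, 1, 1, 1, 1, -3, 1, 1, -3, 1, 1, 1, 1, 1, -3], [1, 1, 1, 1, 1, 1, 1, -3, 1, 1, 1, 1, -3, 1, 1, -3, -3, -3, 1, 1, 1, 1, 1, 1], [1, 1, 1, -3, -3, 1, -3, 1, 1, 1, 1, 1, 1, 1, 1,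 -3, 1, 1, -3, 1, 1, 1, 1, 1], [1, 1, 1, 1, 1, 1, 1, 1, -3, 1, 1, 1, 1, -3, -3, -3, 1, 1, 1, 1, 1, -3, 1, 1], [1, 1, 1, -3, 1, 1, 1, 1, 1, 1, -3, -3, 1, 1, 1, 1, -3, 1, 1, 1, 1, -3, 1, 1], [1, 1, 1, -3, 1, 1, 1, 1, 1, -3, 1, 1, -3, -3, 1, 1, 1, 1, 1, -3, 1, 1, 1, 1], [1, 1, 1, -3, 1, 1, 1, -3, -3, 1, 1, 1, 1, 1, 1, 1, 1, 1, 1, 1, -3, 1, -3, 1], [1, 1, 1, 1, 1, 1, 1, 1, 1, -3, 1, 1, 1, 1, 1, 1, 1, -3, -3, 1, 1, -3, -3, 1], [1, 1, 1, 1, -3, -3, 1, 1, 1, 1, 1, 1, -3, 1, 1, 1, 1, 1, 1, 1, -3, -3, 1, 1], [1, 1, 1, 1, -3, 1, 1, -3, 1, -3, 1, -3, 1, 1, -3, 1, 1, 1, 1, 1, 1, 1, 1, 1]]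
noncomputable def As : List (List (List ℤ)) := [A0, A1, A2, A3, A4]
noncomputable def P0 : ℕ := 0xffffffffffffc000000000000
noncomputable def P1 : ℕ := 0xffffff0000003ffffff000000
noncomputable def P2 : ℕ := 0xfffe00fffc003fc0000fff800
noncomputable def P3 : ℕ := 0xfe01e0ff03fc303fc00fe07e0
noncomputable def P4 : ℕ := 0xf1fd90f8e2032c3c3c0fd061f
noncomputable def P5 : ℕ := 0xe9f94ee4c1f0fb33f3cf1e19c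
noncomputable def P6 : ℕ := 0xd5c5ef18a3c2dae3ba3f3d573
noncomputable def P7 : ℕ := 0x95bc5d9bdbf82a08078eabd4a
noncomputable def P8 : ℕ := 0x256782f741a4c7873978b1692
noncomputable def P9 : ℕ := 0x2d9560fe7baa27e2c4a64d234
noncomputable def P10 : ℕ := 0x3b16d977a5373d86772d768d4
noncomputable def P11 : ℕ := 0xa50c4a19d654a77f067b2caae
noncomputable def P12 : ℕ := 0x51eb81dacbf6dd1900e11d3ac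
noncomputable def P13 : ℕ := 0x62636d7459508e444a7cd4725
noncomputable def P14 : ℕ := 0xe353939db4e7f9033e956f3bc
noncomputable def P15 : ℕ := 0xb2bf12a02bf327ff46b6de35d
noncomputable def P16 : ℕ := 0x1ef563b6b45e16da41a2bc4a2
noncomputable def P17 : ℕ := 0x4b5f78ac6e60474e3bfc2896a
noncomputable def P18 : ℕ := 0xdb5f9c031d42399e016d8d591
noncomputable def P19 : ℕ := 0x270458b7561b073def177045d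
noncomputable def P20 : ℕ := 0x8582affdf981b9d031a842849
noncomputable def P21 : ℕ := 0x402bc0144b6da4f2fa26c28a4
noncomputable def P22 : ℕ := 0x184e50ad8d3b88d9744370e4b
noncomputable def P23 : ℕ := 0x2efb9e121c43954ab00024e1c
noncomputable def md : MD := ⟨[0, 0, 0, 0, 0, 0, 0, 0, 0, 0, 0, 0, 0, 0, 0, 0, 0, 0, 0, 0, 0, 0, 0, 0], [[1, 1, 1, 1, -1, 1, 1, 1, -1, 1, -1, -1, 3, -1, 1, -1, -1, -1, 1, 1, -1, -1, 1, -1], [0, 0, 0, -2, 0, -2, 0, 0, 0, 0, -2, 0, 0, 0, 0, -2, 2, 0, 0, -2, 0, 2, -2, 0], [0, 0, -2, 2, -2, 0, 0, 0, 0, 0, 0, -2, 0, 0, 2, 0, -2, 0, 2, 0, 0, 0, 0, 2], [1, -1, 1, 1, 1, 1, 1, 1, 1, -1, 1, 1, -1, -1, 1, -1, 1, -1, 1, -3, -1, -1, 1, 1], [1, -1, -1, 1, -1, -1, -1, -1, 1, 1, -1, 1, 1, 1, 1, -1, 1, 1, -1, -3, -1, -1, 1, -1], [1, 1, 1, 1, 1, 1, -1, 1, -1, -1, 1, -1, 1,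 1, 1, -1, -1, 1, 1, -1, 1, 1, 3, 1], [1, 1, 3, 1, 1, 1, -1, 1, -1, -1, 1, 1, -1, 1, 1, -1, 1, -1, -1, -1, -1, -1, -1, 1], [1, -1, 1, 1, -1, 1, 1, -1, 1, -1, -1, -1, 3, -1, -1, 1, 1, -1, 1, 1, 1, -1, 1, -1], [0, 0, 2, 0, 0, 0, 0, -2, 0, 2, -2, 0, -2, -2, -2, -2, 0, 0, 0, 0, 0, 0, 0, 0], [0, -2, 0, 0, 0, -2, 0, 0, 0, 0, 2, 0, 0, 0, -2, 0, 0, -2, 2, 2, 0, 0, 2, 0], [1, -1, 1, -1, 1, -1, 1, -1, -1, 1, -3, 1, 1, 1, 1, -1, -1, 1, -1, 1, -1, -1, -1, -1], [-1, 1, -1, -1, -1, -1, -1, 1, 1, -1, -1, 1, 1, 1, 1, -1, -1, -3, 1, 1, -1, -1, 1, 1], [0, 2, 2, 0, 0, -2, -2, 0, 0, 0, 0, 0, 2, -2, 0, -2, 0, 0, 0, 0, 0, 0, 0, 2], [-2, -2, 0, 0, 0, 0, -2, 2, 0, -2, 0, 0, 0, -2, 0, -2, 0, 0, 0, 0, 0, 0, 2, 0], [2, 0, 0, 2, -2, 0, 0, 0, 0, 0, -2, 0, 0, 0, 0, -2, 2, 2, 0, 0, 0, 0, 0, -2], [1, 1, 1, -1,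 1, 1, 1, -1, -1, -1, 3, -1, -1, -1, -1, 1, 1, 1, -1, 1, 1, -1, -1, 1], [0, -2, 0, 2, 0, 0, 0, 2, 0, 2, -2, -2, 0, 2, 0, 0, 0, 0, 0, 0, -2, 0, 0, 0], [-1, -1, 1, 1, -1, -1, 1, 1, -1, 1, 1, -1, 1, -1, 1, -1, 1, -1, 1, -1, -1, -1, 1, -3], [0, 0, 0, 0, -2, 0, 0, 2, 0, 0, -2, 0, 2, -2, 0, 0, 0, 0, -2, 0, -2, -2, 0, 0], [0, 0, 0, 0, 0, 0, 0, -4, 0, 0, 0, 0, 0, 4, 0, 0, 0, 0, 0, 0, 0, 0, 0, 0], [-2, 0, 0, 0, 2, 0, 0, 0, 2, 0, 0, -2, 0, 2, 2, 0, 0, 2, 0, 0, 0, 0, 0, 2], [0, 0, 0, 2, 0, 0, 0, 0, -2, 0, -2, 0, 2, 0, 0, 0, -2, 0, 2, 0, 0, 2, 0, -2], [-1, -1, 1, -1, 1, -1, 1, 1, 1, -1, 3, -1, -1, 1, 1, -1, 1, 1, 1, -1, -1, -1, 1, 1], [1, 1, -1, -1, -3, -1, -1, -1, 1, 1, 1, 1, 1, -1, 1, -1, -1, 1, 1, -1, -1, -1, 1, -1]], [[-67, -13, -11, -29, -21, 51, -23, 15, -107, 73, -31, 87, 27, 15, -3,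 39, 105, 57, 113, 1, 31, -65, 9, 79], [-47, -9, -7, -23, -15, 35, -19, 9, -79, 51, -25, 61, 17, 9, 1, 33, 79, 41, 83, 1, 19, -45, 9, 57], [-28, -6, -4, -12, -10, 20, -10, 6, -46, 30, -14, 36, 10, 6, 0, 18, 44, 24, 48, 0, 14, -28, 4, 34], [86, 16, 12, 38, 28, -62, 32, -20, 138, -92, 42, -110, -32, -20, 4, -54, -134, -74, -146, 0, -42, 86, -12, -100], [-103, -19, -17, -45, -31, 75, -39, 23, -167, 111, -51, 133, 39, 23, -5, 65, 163, 89, 177, -1, 49, -105, 15, 121], [8, 2, 2, 2, 2, -6, 2, -2, 10, -8, 2, -10, -4, -2, 2, -2, -10, -6, -12, 0, -4, 8, 2, -8], [-106, -20, -14, -48, -34, 78, -42, 22, -174, 114, -54, 138, 38, 22, 0, 72, 172, 92, 184, 2, 46, -104, 18, 126], [-1, -1, 1, -1, -1, 1, -1, 1, -1, 1, -1, 1, 1, 1, -1, 1, 1, 1, 3, -1, 3, -3, -1, 1], [-58, -10, -8, -26, -18, 42, -22,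 12, -94, 62, -30, 74, 20, 12, -2, 38, 92, 50, 100, 0, 26, -58, 10, 68], [-96, -18, -14, -44, -30, 70, -38, 18, -160, 104, -50, 126, 34, 18, 2, 68, 160, 84, 168, 4, 38, -92, 20, 116], [38, 6, 6, 16, 12, -28, 14, -8, 60, -40, 18, -48, -14, -8, 2, -24, -60, -32, -64, 0, -16, 36, -6, -44], [17, 5, 1, 7, 7, -13, 5, -3, 27, -19, 7, -23, -7, -3, -1, -11, -27, -15, -27, -1, -7, 13, -3, -21], [108, 20, 16, 50, 34, -80, 42, -22, 178, -116, 56, -140, -38, -22, 0, -74, -176, -94, -188, -2, -46, 106, -20, -128], [18, 2, 2, 8, 6, -12, 6, -4, 30, -20, 10, -24, -6, -4, 0, -14, -30, -16, -32, 0, -8, 18, -4, -22], [23, 5, 3, 11, 7, -17, 9, -5, 37, -25, 11, -29, -9, -5, 1, -15, -35, -19, -39, 1, -11, 23, -3, -27], [4, 2, -2, 0, 4, -2, -2, -2, 2, -4, 0, -6, -2, -2, 0, 0, -2, -2, -2, 0, -4, 0, 0, -4],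 [100, 18, 14, 44, 32, -72, 36, -20, 162, -106, 50, -130, -36, -20, 0, -66, -160, -86, -170, -2, -44, 96, -18, -118], [50, 10, 8, 22, 16, -38, 18, -12, 80, -54, 24, -66, -20, -12, 4, -30, -78, -44, -86, 0, -24, 50, -6, -60], [-48, -8, -6, -22, -16, 34, -18, 8, -80, 50, -26, 62, 16, 8, 2, 36, 80, 42, 82, 2, 16, -44, 12, 58], [66, 12, 10, 30, 20, -48, 26, -16, 108, -72, 34, -86, -24, -14, 2, -44, -106, -58, -116, 0, -32, 68, -10, -78], [-82, -14, -12, -38, -24, 60, -34, 14, -136, 88, -44, 106, 28, 14, 4, 60, 138, 72, 144, 4, 30, -78, 18, 98], [-50, -8, -8, -22, -14, 36, -20, 10, -82, 52, -26, 64, 18, 10, -2, 34, 80, 44, 88, 0, 20, -50, 8, 58], [-25, -5, -3, -9, -9, 17, -5, 9, -35, 25, -9, 31, 11, 9, -7, 9, 31, 21, 39, -3, 17, -27, -1, 27], [17, 3, 3, 5, 5, -11, 3, -5, 25, -17, 7, -21,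 -7, -5, 3, -7, -23, -13, -25, 1, -11, 17, -1, -19]], [P0, P1, P2, P3, P4, P5, P6, P7, P8, P9, P10, P11, P12, P13, P14, P15, P16, P17, P18, P19, P20, P21, P22, P23], 100⟩
noncomputable def m_n0 : Net := Net.cons 64 0x9c2cc30f8b2a8654 <|
  Net.cons 32 0x8bb985280000000022fe3490 <|
  Net.cons 16 0x1bb60000ba4200006fc000006064 <|
  Net.cons 8 0x84001a0034001000d200e400120062 <|
  Net.cons 4 0x40608080a000600080a08000400 <|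
  Net.cons 2 0x2020000200220000200000020000220 <|
  Net.cons 1 0x4010050401410015400055044114140 <|
  Net.cons 2 0x3220110002222002001132032111222 <|
  Net.cons 4 0x208070a0e0a0006000e0a09070102 <|
  Net.cons 8 0x8100060056001900da00f4007000a2 <|
  Net.cons 16 0x1cb600002a4200006f68000065b4 <|
  Net.cons 32 0x9bb187280000000061bc086c <|
  Net.cons 64 0x9c2cc30f9ab69654 <|
  Net.nil
noncomputable def m_n1 : Net := Net.cons 64 0x36d091766612cb1c <|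
  Net.cons 32 0xc549fb8800000000151400d2 <|
  Net.cons 16 0x88600000912200002ee200007e84 <|
  Net.cons 8 0x30003400c60010003c004400c000a2 <|
  Net.cons 4 0x808040c0c0600080c020006000c0004 <|
  Net.cons 2 0x2020200022000002002002002020020 <|
  Net.cons 1 0x1114414014000111454004154014140 <|
  Net.cons 2 0x22220220233000302013003103030200 <|
  Net.cons 4 0x608040c0d060009090300030f0c0a06 <|
  Net.cons 8 0xa000e40046001000aa004c00000080 <|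
  Net.cons 16 0xbbb90000856200006ef20000dd0e <|
  Net.cons 32 0xc5c97b8800000000d41564d4 <|
  Net.cons 64 0x36d09176e654435c <|
  Net.nil
noncomputable def m_n2 : Net := Net.cons 64 0x262480066aba8100 <|
  Net.cons 32 0x2424c0000000000049403080 <|
  Net.cons 16 0x46000000b7800000184000006840 <|
  Net.cons 8 0xe005000c000700062000c <|
  Net.cons 4 0x2060c080000040008000e <|
  Net.cons 2 0x20000000000200020000022000000000 <|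
  Net.cons 1 0x40000000550445014040044455510004 <|
  Net.cons 2 0x20000000331203120000122003301130 <|
  Net.cons 4 0xa060c000800040008080e <|
  Net.cons 8 0x6000e0052001800700062002c <|
  Net.cons 16 0x46000000b7800000184000006840 <|
  Net.cons 32 0x2624c0020000000049403080 <|
  Net.cons 64 0x262480066abe8300 <|
  Net.nil
noncomputable def m_n3 : Net := Net.cons 64 0x9400203353865500 <|
  Net.cons 32 0x14ed202000000000135fc4c8 <|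
  Net.cons 16 0x20f00000cf4000008d1000000604 <|
  Net.cons 8 0x80000002200100048001800c40008 <|
  Net.cons 4 0x20400060800020a0a040008020c0008 <|
  Net.cons 2 0x20200000202002200000022020000200 <|
  Net.cons 1 0x10400040114014110100011040000405 <|
  Net.cons 2 0x22200003202013203001122021120203 <|
  Net.cons 4 0x20500060c000d0a0a04000c020c0908 <|
  Net.cons 8 0x800000022001000cc001800cc0008 <|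
  Net.cons 16 0x20f00000cf4000008d1200004604 <|
  Net.cons 32 0x14ed202000000000135fccc8 <|
  Net.cons 64 0x9400203353865500 <|
  Net.nil
noncomputable def m_n4 : Net := Net.cons 64 0x312e14c61c93a460 <|
  Net.cons 32 0x131fc4840000000037742d20 <|
  Net.cons 16 0x48a00006220000062d00000d030 <|
  Net.cons 8 0x86000000b4008c001400f400c80030 <|
  Net.cons 4 0xc040000020000060204060800080006 <|
  Net.cons 2 0x20022000000000020020020020222200 <|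
  Net.cons 1 0x40011000055454141440140514411105 <|
  Net.cons 2 0x22122003203200113320022330102220 <|
  Net.cons 4 0xd060000020600010d050e0800030906 <|
  Net.cons 8 0x86004000bc0084001400f400180030 <|
  Net.cons 16 0x48a00006a6e000062d00000d230 <|
  Net.cons 32 0x131fc4840000000077742d24 <|
  Net.cons 64 0x312e14c61c93a560 <|
  Net.nil
noncomputable def m_ns : List Net := [m_n0, m_n1, m_n2, m_n3, m_n4]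
noncomputable def m_t0 : Tab := (.leaf 0xfffbefcf7ebcf8efdbaf4e7cb8f0dfbb6ecd7ab4e8cf9b2e49215f606305fc2b618d13295b15198c0e294f3848bbd7cf2e8e350d836325a85eb01cd46652cf5566d24a062512ba295e1101d99170f471608e8fd78b8ced41ed911764d0aa0894a04686e485ca721e2d6ed6abb4c08080)
noncomputable def m_t1 : Tab := (.leaf 0xfffbefcf7ebcf8efdbaf4e7cb8f0dfbb6ecd7ab4e8cf9b2e43d55660952d78cb6d5b44415829c164aa337139e5382c718a8e40f931f72f11bb8530908887270e68316525efd27f2043e5ade8409e0dcb476662944324ed18765d323090ad7b0c140d369634298ba6ab556b1237a08080)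
noncomputable def m_t2 : Tab := (.leaf 0xfffbefcf7ebcf8efdbaf4e7cb8f0dfbb6ecd7ab4e8cf9b2e4b9094b70d105363ad4608447f1ae98c2060504a9b4b05028d4a062ad278a0c6645c1a447287335f5504da976d4ea0e0d91569ce2c9025cbd777d0b1ac6ad98bc79d612098a99874a787971d5492cfc58f7d5ec84780a880)
noncomputable def m_t3 : Tab := (.leaf 0xfffbefcf7ebcf8efdbaf4e7cb8f0dfbb6ecd7ab4e8cf9b2e4ab08c50446d9633ac42cb0c7db339a480af22c1a531ee86271d022de278a0d1141d20346652aec172d4c70fd0526f5222856370cf545a3bc775d0b5ac6ada95a78a1c7c2caca873961710e64591375358217e4847a0a300)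
noncomputable def m_t4 : Tab := (.leaf 0xfffbefcf7ebcf8efdbaf4e7cb8f0dfbb6ecd7ab4e8cf9b2e4c6370e074ac2c2b68884bae50e53a848d500674f2fb0d448236f62c48771c974cb233c037e08b669e50c6e458b0988c73ebca55286cfd2965d68ca00d367558f450988090ad611499591eb713470124930e7ee8a9f21d80)
noncomputable def m_t6 : Tab := (.leaf 0xfffbefcf7ebcf8efdbaf4e7cb8f0dfbb6ecd7ab4e8cf9b2e4aa5e8e0b6ba316bf68983ae831d49b2b0a49e529c8794a4cc8f7492d190a0a5384144b5864d021e25aaa3604fb0477a23b16d14bd009a0505e190d66260ebf66e5d1ec570aceb31443e6e286c35639b110e88284b0e1927)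
noncomputable def m_t8 : Tab := (.leaf 0xfffbefcf7ebcf8efdbaf4e7cb8f0dfbb6ecd7ab4e8cf9b2e4200a542789e630a255a9c1d0621922f6da51899fdd6384b88420cb556582b2a9a7a95f484c4851612cab0d0e5dc406000f690091fbd3a83b3a6e3af50f91d84436a2e9316d0a74a69e3595cd4f6e51cc802cdc368d883ad)
noncomputable def m_ts : List Tab := [m_t0, m_t1, m_t2, m_t3, m_t4, m_t4, m_t6, m_t6, m_t8, m_t8]
noncomputable def m_R : List (List ℕ) := [[4, 4], [6, 6], [8, 8]]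
theorem m_v : validAll (2 ^ 7) m_ns = true := by decide +kernel
noncomputable def c_l0 : Level := ⟨21, [[0], [2], [4], [6], [8]], [4, 0, 2, 0, 4, 1, 3, 0, 4, 1, 0, 0], 0xfffffffffffffffffffffffff, 100⟩
noncomputable def c_l1 : Level := ⟨0, [[0], [2], [4], [6]], [3, 0, 1, 2, 0, 1, 3, 0, 0, 2], 0xf733bbbdffbdcfff85dcbffbf, 77⟩
noncomputable def c_l2 : Level := ⟨2, [[0], [2], [4]], [2, 0, 1, 0, 2, 1, 0, 1, 0, 1], 0xf323bb345f9dcd7d855c33ebe, 60⟩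
noncomputable def c_l3 : Level := ⟨1, [[0], [2]], [1, 0, 1, 0, 1, 0, 1, 0, 0, 1], 0x320138141c18cd78011832482, 32⟩
noncomputable def c_l4 : Level := ⟨3, [[0]], [0, 0], 0x2000004000000008, 3⟩
noncomputable def c_ls : List Level := [c_l0, c_l1, c_l2, c_l3, c_l4]
theorem m_t0_b : Tab.beq (mkTab 7 0 m_ns 0) m_t0 = true := by decide +kernel
theorem m_t1_b : Tab.beq (mkTab 7 0 m_ns 1) m_t1 = true := by decide +kernel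
theorem m_t2_b : Tab.beq (mkTab 7 0 m_ns 2) m_t2 = true := by decide +kernel
theorem m_t3_b : Tab.beq (mkTab 7 0 m_ns 3) m_t3 = true := by decide +kernel
theorem m_t4_b : Tab.beq (mkTab 7 0 m_ns 4) m_t4 = true := by decide +kernel
theorem m_t6_b : Tab.beq (mkTab 7 0 m_ns 6) m_t6 = true := by decide +kernel
theorem m_t8_b : Tab.beq (mkTab 7 0 m_ns 8) m_t8 = true := by decide +kernel
theorem m_p0 : holdsB 7 m_ns [[4, 4], [6, 6], [8, 8]] = true := by decide +kernel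
theorem md_ok : md.ok = true := by decide +kernel
theorem md_s : sortedB md.P md.N = true := by decide +kernel
theorem fx0 : (allLt 7 fun t => Nat.beq (Nat.shiftRight (gat m_ns (Nat.mul 2 0) (sl t 7)) 100) (Nat.shiftRight (sl t 7) 100)) = true := by decide +kernel
theorem fx1 : (allLt 7 fun t => Nat.beq (Nat.shiftRight (gat m_ns (Nat.mul 2 1) (sl t 7)) 100) (Nat.shiftRight (sl t 7) 100)) = true := by decide +kernel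
theorem fx2 : (allLt 7 fun t => Nat.beq (Nat.shiftRight (gat m_ns (Nat.mul 2 2) (sl t 7)) 100) (Nat.shiftRight (sl t 7) 100)) = true := by decide +kernel
theorem fx3 : (allLt 7 fun t => Nat.beq (Nat.shiftRight (gat m_ns (Nat.mul 2 3) (sl t 7)) 100) (Nat.shiftRight (sl t 7) 100)) = true := by decide +kernel
theorem fx4 : (allLt 7 fun t => Nat.beq (Nat.shiftRight (gat m_ns (Nat.mul 2 4) (sl t 7)) 100) (Nat.shiftRight (sl t 7) 100)) = true := by decide +kernel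
theorem g0 : md.GenOK [vL, uL'] As m_ns 0 := ⟨[597194, 15182300, 16628465, 209101, 10879886, 4175543, 8928576, 6104172, 954650, 1094500, 2396704, 4957231, 11288464, 855236, 941659, 13248389, 7604660, 8568540, 4040459, 1709597, 4236451, 14105200, 8063619, 14199102], by decide +kernel, by decide +kernel⟩
theorem g1 : md.GenOK [vL, uL'] As m_ns 1 := ⟨[13833635, 9842921, 5899598, 15691101, 5756468, 9791034, 559262, 14380038, 16760305, 3935464, 12953055, 2092011, 13937482, 8557094, 5274310, 10065629, 15950694, 6149606, 723619, 9417500, 14907841, 11916269, 14613560, 3101094], by decide +kernel, by decide +kernel⟩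
theorem g2 : md.GenOK [vL, uL'] As m_ns 2 := ⟨[4571696, 9553035, 10494736, 9594485, 9143443, 16254737, 7613422, 3299737, 15068711, 5776933, 4354653, 9150193, 13523120, 6946760, 13476934, 16291139, 16320305, 10894222, 16490799, 2337173, 5362857, 15997640, 1847997, 11250069], by decide +kernel, by decide +kernel⟩
theorem g3 : md.GenOK [vL, uL'] As m_ns 3 := ⟨[618198, 1219908, 5198898, 317131, 5245081, 13566230, 122444, 14179967, 1280010, 10469887, 13031500, 14521456, 9572870, 13752936, 14270707, 10125680, 2065075, 253452, 5173076, 4674614, 5047088, 11090903, 1407403, 2021299], by decide +kernel, by decide +kernel⟩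
theorem g4 : md.GenOK [vL, uL'] As m_ns 4 := ⟨[5899105, 3001819, 11659778, 5125876, 12605724, 5068535, 9513750, 3500587, 3145903, 15557318, 9115167, 9132660, 11963830, 4171254, 15058372, 5281838, 1113099, 12407467, 2630946, 1361525, 311695, 16051743, 16140729, 2219754], by decide +kernel, by decide +kernel⟩
theorem c_l0_ok : (ptsOK 7 [] && (wordsIn [0, 2, 4, 6, 8] c_l0.S && c_l0.ok 7 m_ns m_ts [])) = true := by decide +kernel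
theorem c_l1_ok : (ptsOK 7 [21] && (wordsIn [0, 2, 4, 6, 8] c_l1.S && c_l1.ok 7 m_ns m_ts [21])) = true := by decide +kernel
theorem c_l2_ok : (ptsOK 7 [0, 21] && (wordsIn [0, 2, 4, 6, 8] c_l2.S && c_l2.ok 7 m_ns m_ts [0, 21])) = true := by decide +kernel
theorem c_l3_ok : (ptsOK 7 [2, 0, 21] && (wordsIn [0, 2, 4, 6, 8] c_l3.S && c_l3.ok 7 m_ns m_ts [2, 0, 21])) = true := by decide +kernel
theorem c_l4_ok : (ptsOK 7 [1, 2, 0, 21] && (wordsIn [0, 2, 4, 6, 8] c_l4.S && c_l4.ok 7 m_ns m_ts [1, 2, 0, 21])) = true := by decide +kernel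
theorem m_p : Holds (lp m_ns) m_R := (holdsB_sound m_v m_p0)
theorem m_ts_ok : TabsOK 7 (lp m_ns) m_ts :=
  TabsFrom.ok ⟨TabOK.of_beq m_v m_t0_b,
    TabOK.of_beq m_v m_t1_b,
    TabOK.of_beq m_v m_t2_b,
    TabOK.of_beq m_v m_t3_b,
    TabOK.of_beq m_v m_t4_b,
    TabOK.next (j := 2) (TabOK.of_beq m_v m_t4_b) m_p (by decide +kernel),
    TabOK.of_beq m_v m_t6_b,
    TabOK.next (j := 3) (TabOK.of_beq m_v m_t6_b) m_p (by decide +kernel),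
    TabOK.of_beq m_v m_t8_b,
    TabOK.next (j := 4) (TabOK.of_beq m_v m_t8_b) m_p (by decide +kernel),
    Nat.le_of_ble_eq_true (by decide +kernel)⟩
theorem c_sound {G : Type*} [Group G] {φ : G →* Equiv.Perm ℕ} {γ : ℕ → G}
    (M : Model φ γ 7 m_ns m_ts) : ChainSound φ (gp γ [0, 2, 4, 6, 8]) 7 [] c_ls :=
  ⟨Level.ok_sound' M c_l0_ok,
   Level.ok_sound' M c_l1_ok,
   Level.ok_sound' M c_l2_ok,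
   Level.ok_sound' M c_l3_ok,
   Level.ok_sound' M c_l4_ok, trivial⟩
theorem m_fix : fixAbove 7 md.N m_ns = true := allLt_iff.2 <| fun j hj => by
  change j < 5 at hj
  interval_cases j
  exacts [fx0, fx1, fx2, fx3, fx4]
theorem gens_ok : ∀ j < As.length, md.GenOK [vL, uL'] As m_ns j := fun j hj => by
  change j < 5 at hj
  interval_cases j
  exacts [g0, g1, g2, g3, g4]
/-- the generators -/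
noncomputable abbrev γ : ℕ → Cfsg.Spor.HS := γM Cfsg.Spor.HS As
theorem cert' : ∃ φ, Cert φ γ 7 m_ns m_ts [0, 2, 4, 6, 8] c_ls ∧
    ∀ g : Cfsg.Spor.HS, φ g ∈ bddPerm md.N ∧ ∀ i < md.N, md.Rel g i (φ g i) :=
  MD.cert md_ok md_s HS_eq (Or.inl (Subtype.ext ((coe_lv (by decide +kernel)).trans (by decide +kernel)))) m_v m_fix rfl gens_ok (by decide +kernel) m_ts_ok (fun _ _ _ _ M => c_sound M) bd_HS (by decide +kernel)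
theorem cert : ∃ φ, Cert φ γ 7 m_ns m_ts [0, 2, 4, 6, 8] c_ls := cert'.imp fun _ h => h.1
theorem card_eq : Nat.card Cfsg.Spor.HS = 44352000 := by
  obtain ⟨φ, C⟩ := cert
  exact C.card.trans (by decide +kernel)

end Cfsg.Agent.HSC
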