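import Cfsg.Agent.HSC.MulPresR

set_option autoImplicit false
set_option Elab.async false
set_option maxRecDepth 100000
set_option linter.all false

namespace Cfsg.Agent.HSC
open Cfsg.Agent.CGT

noncomputable def ql0_n0 : Net := Net.cons 64 0x1031a2a0593e1bae <|
  Net.cons 32 0x4579089000000000464439d0 <|
  Net.cons 16 0x6280000012000000c40800007d28 <|
  Net.cons 8 0x4c0048000400b40004007400a0006c <|
  Net.cons 4 0x80200060e00020c02000806080c0800 <|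
  Net.cons 2 0x200000000002002000020000000000 <|
  Net.cons 1 0x41110014101044404440010550404000 <|
  Net.cons 2 0x20210001120023232100130222011102 <|
  Net.cons 4 0x90300070e010405000009050c0c0204 <|
  Net.cons 8 0x4c0048008400320000002400a7000c <|
  Net.cons 16 0x62a0000012000000c08800002c6c <|
  Net.cons 32 0x454888900000000043482c94 <|
  Net.cons 64 0x1031a2a2113e5b9e <|
  Net.nil
noncomputable def ql0_n1 : Net := Net.cons 64 0x4ccfe0ce907ab900 <|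
  Net.cons 32 0x774864800000000461cc5b6 <|
  Net.cons 16 0x2656000024e0000066340000b68c <|
  Net.cons 8 0x4400e200da000800a2002200c8 <|
  Net.cons 4 0xe0c0c040808000c04060a0e000c08 <|
  Net.cons 2 0x20220022220000000000000220000000 <|
  Net.cons 1 0x45410414140011440510500111001400 <|
  Net.cons 2 0x23200231202112000210100130120202 <|
  Net.cons 4 0x20c0c0504040404010406080d040c02 <|
  Net.cons 8 0x260046004a004a00180027002800fa <|
  Net.cons 16 0x649f00006ce70000b2340000beee <|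
  Net.cons 32 0x3fc268300000000773cd3a4 <|
  Net.cons 64 0x4ccfe0cd7a98a0d8 <|
  Net.nil
noncomputable def ql0_n2 : Net := Net.cons 64 0xc300b23421000208 <|
  Net.cons 32 0xcd67a8020000000045402080 <|
  Net.cons 16 0xce780000330800002d7800005800 <|
  Net.cons 8 0x90009c002800ac000800e400e00000 <|
  Net.cons 4 0x80200000000000c0c08020608040402 <|
  Net.cons 2 0x20002200200000200002000200020000 <|
  Net.cons 1 0x11054450100004450041400454040010 <|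
  Net.cons 2 0x20232203222000202102031230021000 <|
  Net.cons 4 0x80206000000030c0c08020608040406 <|
  Net.cons 8 0x90009c002800ac000c00e400e00088 <|
  Net.cons 16 0xce780000730800002d7800005800 <|
  Net.cons 32 0xcd67a8020000000045402080 <|
  Net.cons 64 0xc300b23421000208 <|
  Net.nil
noncomputable def ql0_n3 : Net := Net.cons 64 0xc7c8648008000000 <|
  Net.cons 32 0xd7e20700000000001c51c000 <|
  Net.cons 16 0xd2a00000b290000082600000c540 <|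
  Net.cons 8 0x8400140004004400c2001000020020 <|
  Net.cons 4 0xc0804080a0804000004000004020404 <|
  Net.cons 2 0x22020002002020000002220002000 <|
  Net.cons 1 0x444014411004041001004441101500 <|
  Net.cons 2 0x3020022103122120030102220002030 <|
  Net.cons 4 0xc08060a0a080408040400070c0e0404 <|
  Net.cons 8 0x8400b3005c004400c20010008a0020 <|
  Net.cons 16 0xd2a00000b290000082600000c540 <|
  Net.cons 32 0xd7e20700000000001c51c000 <|
  Net.cons 64 0xc7c8648008000000 <|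
  Net.nil
noncomputable def ql0_n4 : Net := Net.cons 64 0x58a400f05c204000 <|
  Net.cons 32 0x5168cb800000000007331284 <|
  Net.cons 16 0x1c400008a000000ac200000e6b8 <|
  Net.cons 8 0x2000ce00940006005c00d80090006a <|
  Net.cons 4 0x20602000004080000000a <|
  Net.cons 2 0x20000000200000000200022202020002 <|
  Net.cons 1 0x40444051101050505100414414014511 <|
  Net.cons 2 0x20000330200102333203222001311230 <|
  Net.cons 4 0x10c0000040206020900040f04010c04 <|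
  Net.cons 8 0x2000ce00b4002e005c007c00df00fd <|
  Net.cons 16 0x9c400009e930000ae200000b6bc <|
  Net.cons 32 0x5168cb800000000007331284 <|
  Net.cons 64 0x58a400f05c204000 <|
  Net.nil
noncomputable def ql0_ns : List Net := [ql0_n0, ql0_n1, ql0_n2, ql0_n3, ql0_n4]
noncomputable def ql0_R : List (List ℕ) := [[4, 4], [6, 6], [8, 8], [0, 0, 0], [3, 3, 3, 3], [2, 0, 2, 0, 2, 0, 2, 0], [2, 0, 3, 0, 2, 0, 3, 0], [1, 2, 2, 1, 3, 3, 1, 3, 3], [0, 4, 0, 4, 0, 4, 0, 4], [4, 1, 4, 0, 2, 4, 0, 4, 2], [2, 4, 3, 4, 0, 2, 4, 3, 4, 0], [4, 2, 4, 2, 4, 2, 4, 2, 4, 2], [2, 4, 3, 0, 2, 4, 3, 0, 2, 4, 3, 0], [4, 2, 6, 0, 6, 1, 6, 1, 2, 0], [1, 3, 6, 0, 6, 2, 0, 2, 6, 1, 6, 3], [6, 0, 6, 2, 0, 4, 2, 6, 1, 6, 0], [0, 6, 1, 2, 0, 6, 1, 4, 0, 6, 1, 3], [4, 0, 6, 0, 3, 6, 1, 4, 1, 6, 1, 3], [6, 0, 6, 4, 0, 3, 4, 6, 1, 6, 2], [3, 4, 6, 1, 8, 6, 8, 0, 6, 0, 2, 4], [6, 3, 6, 3, 8, 0, 2, 6, 8, 4, 2, 0], [2,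 2, 1, 2, 8, 4, 6, 0, 6, 8, 6, 4], [1, 6, 4, 6, 0, 6, 1, 6, 4, 6, 0, 6], [8, 2, 1, 2, 1, 8, 2, 6, 8, 4, 8, 6, 3], [1, 2, 2, 8, 0, 8, 4, 0, 8, 0, 8, 2, 8, 6, 3, 4]]
noncomputable def ql0_S0 : List (List ℕ) := [[0], [2], [4], [6]]
noncomputable def ql0_E : Enum := ⟨ql0_ns, ql0_R, ql0_S0, [], 0⟩
theorem ql0_v : validAll (2 ^ 7) ql0_ns = true := by decide +kernel
theorem ql0_p0 : holdsB 7 ql0_ns ql0_R = true := by decide +kernel
theorem ql0_p : Holds (lp ql0_ns) ql0_R := holdsB_sound ql0_v ql0_p0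
theorem ql0_f : allL ql0_E.Sub (fixN ql0_E.ns ql0_E.b0) = true := by decide +kernel
theorem ql0_r0 : ql0_E.run [34, 8, 2, 1, 6, 5, 10, 9, 14, 13, 18, 0, 26, 4, 34, 8, 2, 1, 6, 5, 10, 9, 14, 13, 18, 0, 26, 4, 34, 8, 12, 1, 3, 1, 7, 9, 11, 15, 20556, 24656, 9, 84, 9, 24660, 4, 20568, 16, 13, 36916, 1, 8216, 13, 16456, 1, 12, 1, 12312, 1, 12, 1, 20540, 32840, 5, 12328, 4140, 9, 8244, 4116, 1, 8228, 4148, 9, 28724, 5, 36916, 1, 16, 13, 4128, 0, 4128, 16420, 9, 24636, 9, 4168, 1, 12360, 0, 28744, 4, 20, 9, 8244, 4, 16436, 36936, 4, 41032, 9, 4116, 1, 52, 0, 4132, 5, 4136, 4140, 9, 4160, 20556, 24656, 9, 84, 9, 24660, 4, 16, 13, 8284, 5, 24668, 9, 36956, 16, 13, 4116, 1, 12, 1, 36916, 1, 84, 9, 20564, 16, 13, 4120, 1, 12312, 1, 28, 5, 4124, 9, 12316, 5, 20508, 13, 12312, 1, 4176, 13, 28768, 1, 41056, 8, 12, 1, 20, 9, 28732, 52, 0, 36, 0, 20516, 0, 36, 16436, 36948, 8, 24656, 9, 16, 13,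 4116, 1, 4120, 1, 12, 1, 41016, 4, 28736, 8260, 4, 28740, 0, 8268, 4, 16464, 8, 28752, 4, 32848, 8, 84, 9, 4180, 9, 16468, 8, 24660, 4, 45140, 0, 16, 13, 28, 5, 28708, 0, 32804, 9, 16, 13, 44, 0, 4140, 9, 8244, 16436, 4, 36916, 1, 32, 1, 12, 1, 8216, 13, 4128, 0, 4132, 5, 8228, 0, 24612, 1, 32, 1, 12, 1, 4140, 9, 24628, 8252, 4, 28732, 4, 32840, 5, 36936, 4, 41032, 9, 8244, 8252, 4, 12360, 41032, 9, 52, 16440, 4, 45112, 13, 64, 1, 12352, 9, 4164, 1, 20548, 4, 28740, 32836, 5, 16460, 8, 20556, 8272, 4, 12368, 13, 16464, 8, 20560, 1, 24656, 9, 36944, 0, 84, 9, 20564, 0, 24660, 4, 28756, 1, 36948, 8, 4184, 4, 20568, 16, 13, 20, 9, 4116, 1, 4120, 1, 8216, 13, 12312, 1, 4128, 0, 12, 1, 20, 9, 12312, 1, 32, 1, 4128, 0, 12, 1, 16, 13, 8228, 16420, 9, 28708, 0, 32804, 9, 4120, 1, 4136, 8244, 4, 12340, 1, 16436, 28724, 5, 32820, 9, 20, 9, 4128, 52, 8244, 4, 4160, 16460, 8, 24652, 8, 16464,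 8, 32848, 8] (1 <<< 0) (List.replicate 10 0) (Enum.done 100 [0, 2, 4, 6, 8]) = true := by decide +kernel
theorem ql0_fin {G : Type*} [Group G] {γ : ℕ → G} (hR : Holds (ext γ) ql0_R) {H : Subgroup G}
    (hS : ∀ u ∈ ql0_S0, ev (ext γ) u ∈ H) : ql0_E.Fin γ H 100 [0, 2, 4, 6, 8] :=
  have hy : ql0_E.Hyp γ H := Enum.hyp_of ql0_v hR ql0_p hS ql0_f
  (Enum.fin_of_done hy (Enum.inv_init 10) ql0_r0)
noncomputable def ql1_n0 : Net := Net.cons 64 0x22b101c884908000 <|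
  Net.cons 32 0x4308658000000002201f010 <|
  Net.cons 16 0xa0d0000008020000c7680000dad8 <|
  Net.cons 8 0x40008800900000002600e4001c0010 <|
  Net.cons 4 0x40008000808000a04000c000802000c <|
  Net.cons 2 0x2000000200000002000022022000000 <|
  Net.cons 1 0x4000500100000414001444011100450 <|
  Net.cons 2 0x2000000200200002001032221120030 <|
  Net.cons 4 0x10200000a000e00000c09010a000e <|
  Net.cons 8 0xc0008800900001002600f0001c0050 <|
  Net.cons 16 0xa0c0000008020000e76800009ad8 <|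
  Net.cons 32 0x43086d8000000003a01f010 <|
  Net.cons 64 0x22b101c884908000 <|
  Net.nil
noncomputable def ql1_n1 : Net := Net.cons 64 0x3cb398150d100000 <|
  Net.cons 32 0x3ca3980000000000c267d800 <|
  Net.cons 16 0x8000000bac00000d5660000b050 <|
  Net.cons 8 0x10001800520094006600a600200098 <|
  Net.cons 4 0xc0000080800060c080008040008000e <|
  Net.cons 2 0x20000020220000002000220200000220 <|
  Net.cons 1 0x10000010111001514101410400104440 <|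
  Net.cons 2 0x30000021300010203200000000202032 <|
  Net.cons 4 0xc00000909030f0e0b040c0e000c000e <|
  Net.cons 8 0x10000800c300ad002700640060003e <|
  Net.cons 16 0x8000000ba620000962e0000b054 <|
  Net.cons 32 0x30b3801500000000826bb8e0 <|
  Net.cons 64 0x3cb398150d100000 <|
  Net.nil
noncomputable def ql1_n2 : Net := Net.cons 64 0x4384088000000000 <|
  Net.cons 32 0x430409000000000051026000 <|
  Net.cons 16 0x8000000520000004d44000094e4 <|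
  Net.cons 8 0x80008000000000009400e000000088 <|
  Net.cons 4 0x8000000040a0604040c0c000402 <|
  Net.cons 2 0x200000000220020000000000202 <|
  Net.cons 1 0x100000004410140001550554114 <|
  Net.cons 2 0x200000002021020030330000202 <|
  Net.cons 4 0x80008000100040a060c040c0c0f040a <|
  Net.cons 8 0x8000800000004a00d400e0000000c8 <|
  Net.cons 16 0x8000000520400005d44000096e4 <|
  Net.cons 32 0x430409000000000051026000 <|
  Net.cons 64 0x4384088000000000 <|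
  Net.nil
noncomputable def ql1_n3 : Net := Net.cons 64 0xc00802320000000 <|
  Net.cons 32 0xc0080580000000020d7b0c0 <|
  Net.cons 16 0x28000000481000005410 <|
  Net.cons 8 0x2c0048007000c20002 <|
  Net.cons 4 0x600000c0a0804080c08020000 <|
  Net.cons 2 0x20000000000002000220 <|
  Net.cons 1 0x15040040054015000001050411 <|
  Net.cons 2 0x3000022200003123022331321 <|
  Net.cons 4 0x600000d0a0804080c08020000 <|
  Net.cons 8 0x2c0048007000c2000d <|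
  Net.cons 16 0x28000000499000005410 <|
  Net.cons 32 0xc0080580000000020d7b0c0 <|
  Net.cons 64 0xc00802320000000 <|
  Net.nil
noncomputable def ql1_ns : List Net := [ql1_n0, ql1_n1, ql1_n2, ql1_n3, Net.nil]
noncomputable def ql1_R : List (List ℕ) := [[4, 4], [6, 6], [0, 0, 0], [3, 3, 3, 3], [2, 0, 2, 0, 2, 0, 2, 0], [2, 0, 3, 0, 2, 0, 3, 0], [1, 2, 2, 1, 3, 3, 1, 3, 3], [0, 4, 0, 4, 0, 4, 0, 4], [4, 1, 4, 0, 2, 4, 0, 4, 2], [2, 4, 3, 4, 0, 2, 4, 3, 4, 0], [4, 2, 4, 2, 4, 2, 4, 2, 4, 2], [2, 4, 3, 0, 2, 4, 3, 0, 2, 4, 3, 0], [4, 2, 6, 0, 6, 1, 6, 1, 2, 0], [1, 3, 6, 0, 6, 2, 0, 2, 6, 1, 6, 3], [6, 0, 6, 2, 0, 4, 2, 6, 1, 6, 0], [0, 6, 1, 2, 0, 6, 1, 4, 0, 6, 1, 3], [4, 0, 6, 0, 3, 6, 1, 4, 1, 6, 1, 3], [6, 0, 6, 4, 0, 3, 4, 6, 1, 6, 2], [1, 6, 4, 6, 0, 6, 1, 6, 4, 6, 0, 6]]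
noncomputable def ql1_S0 : List (List ℕ) := [[0], [2], [4]]
noncomputable def ql1_E : Enum := ⟨ql1_ns, ql1_R, ql1_S0, [], 0⟩
theorem ql1_v : validAll (2 ^ 7) ql1_ns = true := by decide +kernel
theorem ql1_p0 : holdsB 7 ql1_ns ql1_R = true := by decide +kernel
theorem ql1_p : Holds (lp ql1_ns) ql1_R := holdsB_sound ql1_v ql1_p0
theorem ql1_f : allL ql1_E.Sub (fixN ql1_E.ns ql1_E.b0) = true := by decide +kernel
theorem ql1_r0 : ql1_E.run [26, 4, 2, 1, 6, 5, 10, 9, 14, 13, 18, 0, 26, 4, 2, 1, 6, 5, 10, 9, 14, 13, 18, 0, 26, 4, 8, 1, 12, 13, 3, 1, 7, 9, 11, 16432, 24628, 1, 24640, 5, 8, 1, 4112, 1, 12308, 1, 8, 1, 20536, 20548, 13, 24636, 5, 8, 1, 41016, 1, 28740, 4, 41028, 9, 8, 1, 16416, 9, 4136, 9, 20528, 5, 36912, 1, 8, 1, 4124, 0, 20504, 13, 20512, 0, 32800, 9, 4112, 1, 12320, 1, 4116, 1, 8, 1, 36, 9, 16420, 1, 32, 0, 28704, 0, 32, 0, 8224, 4124, 32800, 9, 12, 13, 4116, 1, 12308,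 1, 4124, 0, 8, 1, 20, 9, 12, 13, 24608, 1, 8228, 13, 16420, 1, 40, 0, 16432, 4, 32816, 9, 36912, 1, 8, 1, 4132, 16432, 4, 56, 4, 8248, 4, 24632, 9, 8260, 4, 12356, 24644, 0, 36932, 4, 41028, 9, 16408, 13, 36, 9, 48, 0, 4144, 9, 8240, 12, 13, 12308, 1, 28, 1, 4124, 0, 16, 9, 16416, 9, 28696, 13, 8240, 4, 12336, 1, 16432, 4, 20528, 5, 32816, 9, 12, 13, 16, 9, 20, 9, 8212, 13, 4124, 8224, 0, 20512, 0, 12336, 1, 8, 1, 8240, 4, 24624, 20548, 13, 41028, 9, 12, 13, 16, 9, 4116, 1, 32, 8224, 60, 1, 4156, 12348, 9, 20540, 4, 8256, 4, 12352, 1, 16448, 13, 20544, 4, 28736, 0, 36928, 4, 45120, 13, 72, 5, 4168, 8264, 12, 13, 4112, 1, 4124, 8240, 4] (1 <<< 0) (List.replicate 8 0) (Enum.done 77 [0, 2, 4, 6]) = true := by decide +kernel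
theorem ql1_fin {G : Type*} [Group G] {γ : ℕ → G} (hR : Holds (ext γ) ql1_R) {H : Subgroup G}
    (hS : ∀ u ∈ ql1_S0, ev (ext γ) u ∈ H) : ql1_E.Fin γ H 77 [0, 2, 4, 6] :=
  have hy : ql1_E.Hyp γ H := Enum.hyp_of ql1_v hR ql1_p hS ql1_f
  (Enum.fin_of_done hy (Enum.inv_init 8) ql1_r0)
noncomputable def ql2_n0 : Net := Net.cons 32 0xc9479588 <|
  Net.cons 16 0x60660000c656 <|
  Net.cons 8 0xa4006800780008 <|
  Net.cons 4 0xe0c000208020a04 <|
  Net.cons 2 0x2002002000000 <|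
  Net.cons 1 0x4551144044540144 <|
  Net.cons 2 0x2133033013032020 <|
  Net.cons 4 0x60d0c0f060c0b0c <|
  Net.cons 8 0x6400a1006c0030 <|
  Net.cons 16 0xe0970000ffbe <|
  Net.cons 32 0xc6c749a8 <|
  Net.nil
noncomputable def ql2_n1 : Net := Net.cons 32 0x8e639582 <|
  Net.cons 16 0x8f200000c5ea <|
  Net.cons 8 0xa400920050007c <|
  Net.cons 4 0xc02040202040202 <|
  Net.cons 2 0x2000000000000000 <|
  Net.cons 1 0x4140041050511450 <|
  Net.cons 2 0x2221320301321320 <|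
  Net.cons 4 0x603000d06040202 <|
  Net.cons 8 0x2e006c00480058 <|
  Net.cons 16 0xafa0000f046 <|
  Net.cons 32 0x830e52d8 <|
  Net.nil
noncomputable def ql2_n2 : Net := Net.cons 32 0x9c9d228 <|
  Net.cons 16 0x28400000a388 <|
  Net.cons 8 0xb4003400f400a8 <|
  Net.cons 4 0x20a0a0000000402 <|
  Net.cons 2 0x2002000200202 <|
  Net.cons 1 0x144411044404411 <|
  Net.cons 2 0x103332200202020 <|
  Net.cons 4 0xb0a0c0d0f080a0d <|
  Net.cons 8 0x9100af00f400a8 <|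
  Net.cons 16 0x28550000a388 <|
  Net.cons 32 0x9c9d228 <|
  Net.nil
noncomputable def ql2_ns : List Net := [ql2_n0, ql2_n1, ql2_n2, Net.nil, Net.nil]
noncomputable def ql2_R : List (List ℕ) := [[4, 4], [0, 0, 0], [3, 3, 3, 3], [2, 0, 2, 0, 2, 0, 2, 0], [2, 0, 3, 0, 2, 0, 3, 0], [1, 2, 2, 1, 3, 3, 1, 3, 3], [0, 4, 0, 4, 0, 4, 0, 4], [4, 1, 4, 0, 2, 4, 0, 4, 2], [2, 4, 3, 4, 0, 2, 4, 3, 4, 0], [4, 2, 4, 2, 4, 2, 4, 2, 4, 2], [2, 4, 3, 0, 2, 4, 3, 0, 2, 4, 3, 0]]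
noncomputable def ql2_S0 : List (List ℕ) := [[0], [2]]
noncomputable def ql2_E : Enum := ⟨ql2_ns, ql2_R, ql2_S0, [], 0⟩
theorem ql2_v : validAll (2 ^ 6) ql2_ns = true := by decide +kernel
theorem ql2_p0 : holdsB 6 ql2_ns ql2_R = true := by decide +kernel
theorem ql2_p : Holds (lp ql2_ns) ql2_R := holdsB_sound ql2_v ql2_p0
theorem ql2_f : allL ql2_E.Sub (fixN ql2_E.ns ql2_E.b0) = true := by decide +kernel
theorem ql2_r0 : ql2_E.run [18, 0, 2, 1, 6, 5, 10, 9, 14, 13, 18, 0, 2, 1, 6, 5, 10, 9, 14, 13, 10, 9, 4, 1, 8, 13, 4108, 1, 20, 5, 3, 1, 7, 9, 24, 1, 4, 1, 8220, 0, 16412, 9, 24604, 1, 32796, 9, 4, 1, 4120, 0, 32, 9, 8224, 13, 36, 0, 8, 13, 24604, 1, 8232, 13, 8, 13, 4108, 1, 8208, 13, 12304, 1, 4, 1, 4108, 1, 4112, 1, 20508, 0, 12316, 1, 4108, 1, 8208, 13, 4128, 0, 12320, 0, 36, 0, 4124, 5, 8220, 0, 20508, 24604, 1, 4, 1, 4108, 1, 4112, 1, 12304, 1, 4120, 4, 1, 4108, 1, 16, 9,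 4112, 1, 12304, 1, 8, 13, 28, 0, 4124, 5, 8220, 12316, 1, 16412, 9, 20508, 0, 24604, 1, 28700, 4, 1, 4128, 12320, 36] (1 <<< 0) (List.replicate 6 0) (Enum.done 60 [0, 2, 4]) = true := by decide +kernel
theorem ql2_fin {G : Type*} [Group G] {γ : ℕ → G} (hR : Holds (ext γ) ql2_R) {H : Subgroup G}
    (hS : ∀ u ∈ ql2_S0, ev (ext γ) u ∈ H) : ql2_E.Fin γ H 60 [0, 2, 4] :=
  have hy : ql2_E.Hyp γ H := Enum.hyp_of ql2_v hR ql2_p hS ql2_f
  (Enum.fin_of_done hy (Enum.inv_init 6) ql2_r0)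
noncomputable def ql3_n0 : Net := Net.cons 16 0xf8a2 <|
  Net.cons 8 0x800088 <|
  Net.cons 4 0x8000a <|
  Net.cons 2 0x2 <|
  Net.cons 1 0x5111044 <|
  Net.cons 2 0x32202112 <|
  Net.cons 4 0x701070c <|
  Net.cons 8 0xee00e0 <|
  Net.cons 16 0xc7d0 <|
  Net.nil
noncomputable def ql3_n1 : Net := Net.cons 16 0x2db8 <|
  Net.cons 8 0xa80004 <|
  Net.cons 4 0xa000c00 <|
  Net.cons 2 0x22222020 <|
  Net.cons 1 0x44414515 <|
  Net.cons 2 0x12021332 <|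
  Net.cons 4 0x3090808 <|
  Net.cons 8 0x3f006c <|
  Net.cons 16 0x123e <|
  Net.nil
noncomputable def ql3_ns : List Net := [ql3_n0, ql3_n1, Net.nil, Net.nil, Net.nil]
noncomputable def ql3_R : List (List ℕ) := [[0, 0, 0], [3, 3, 3, 3], [2, 0, 2, 0, 2, 0, 2, 0], [2, 0, 3, 0, 2, 0, 3, 0], [1, 2, 2, 1, 3, 3, 1, 3, 3]]
noncomputable def ql3_S0 : List (List ℕ) := [[0]]
noncomputable def ql3_E : Enum := ⟨ql3_ns, ql3_R, ql3_S0, [], 0⟩
theorem ql3_v : validAll (2 ^ 5) ql3_ns = true := by decide +kernel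
theorem ql3_p0 : holdsB 5 ql3_ns ql3_R = true := by decide +kernel
theorem ql3_p : Holds (lp ql3_ns) ql3_R := holdsB_sound ql3_v ql3_p0
theorem ql3_f : allL ql3_E.Sub (fixN ql3_E.ns ql3_E.b0) = true := by decide +kernel
theorem ql3_r0 : ql3_E.run [10, 9, 14, 13, 2, 1, 6, 5, 10, 9, 14, 13, 2, 1, 6, 5, 10, 9, 0, 1, 4, 13, 16, 5, 3, 1, 4104, 1, 4108, 1, 12300, 1, 0, 1, 8, 9, 12300, 1, 0, 1, 4, 13, 8, 9, 4104, 1, 4108, 1, 8204, 13] (1 <<< 0) (List.replicate 5 0) (Enum.done 32 [0, 2]) = true := by decide +kernel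
theorem ql3_fin {G : Type*} [Group G] {γ : ℕ → G} (hR : Holds (ext γ) ql3_R) {H : Subgroup G}
    (hS : ∀ u ∈ ql3_S0, ev (ext γ) u ∈ H) : ql3_E.Fin γ H 32 [0, 2] :=
  have hy : ql3_E.Hyp γ H := Enum.hyp_of ql3_v hR ql3_p hS ql3_f
  (Enum.fin_of_done hy (Enum.inv_init 5) ql3_r0)
noncomputable def ql4_n0 : Net := Net.cons 2 0x2 <|
  Net.cons 1 0x4 <|
  Net.cons 2 0x3 <|
  Net.nil
noncomputable def ql4_ns : List Net := [ql4_n0, Net.nil, Net.nil, Net.nil, Net.nil]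
noncomputable def ql4_R : List (List ℕ) := [[0, 0, 0]]
noncomputable def ql4_S0 : List (List ℕ) := []
noncomputable def ql4_E : Enum := ⟨ql4_ns, ql4_R, ql4_S0, [], 0⟩
theorem ql4_v : validAll (2 ^ 3) ql4_ns = true := by decide +kernel
theorem ql4_p0 : holdsB 3 ql4_ns ql4_R = true := by decide +kernel
theorem ql4_p : Holds (lp ql4_ns) ql4_R := holdsB_sound ql4_v ql4_p0
theorem ql4_f : allL ql4_E.Sub (fixN ql4_E.ns ql4_E.b0) = true := by decide +kernel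
theorem ql4_r0 : ql4_E.run [2, 1, 6, 5, 0, 1] (1 <<< 0) (List.replicate 3 0) (Enum.done 3 [0]) = true := by decide +kernel
theorem ql4_fin {G : Type*} [Group G] {γ : ℕ → G} (hR : Holds (ext γ) ql4_R) {H : Subgroup G}
    (hS : ∀ u ∈ ql4_S0, ev (ext γ) u ∈ H) : ql4_E.Fin γ H 3 [0] :=
  have hy : ql4_E.Hyp γ H := Enum.hyp_of ql4_v hR ql4_p hS ql4_f
  (Enum.fin_of_done hy (Enum.inv_init 3) ql4_r0)
theorem qbd4 {G : Type*} [Group G] {γ : ℕ → G} (hR : Holds (ext γ) qRR) : Bd (gp γ [0]) 3 :=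
  Bd.step (ql4_fin (hR.subR (by decide +kernel)) (wordsIn_sound γ (L := []) (by decide +kernel))) (Bd.gp_nil γ) (by norm_num)
theorem qbd3 {G : Type*} [Group G] {γ : ℕ → G} (hR : Holds (ext γ) qRR) : Bd (gp γ [0, 2]) 96 :=
  Bd.step (ql3_fin (hR.subR (by decide +kernel)) (wordsIn_sound γ (L := [0]) (by decide +kernel))) (qbd4 hR) (by norm_num)
theorem qbd2 {G : Type*} [Group G] {γ : ℕ → G} (hR : Holds (ext γ) qRR) : Bd (gp γ [0, 2, 4]) 5760 :=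
  Bd.step (ql2_fin (hR.subR (by decide +kernel)) (wordsIn_sound γ (L := [0, 2]) (by decide +kernel))) (qbd3 hR) (by norm_num)
theorem qbd1 {G : Type*} [Group G] {γ : ℕ → G} (hR : Holds (ext γ) qRR) : Bd (gp γ [0, 2, 4, 6]) 443520 :=
  Bd.step (ql1_fin (hR.subR (by decide +kernel)) (wordsIn_sound γ (L := [0, 2, 4]) (by decide +kernel))) (qbd2 hR) (by norm_num)
theorem qbd0 {G : Type*} [Group G] {γ : ℕ → G} (hR : Holds (ext γ) qRR) : Bd (gp γ [0, 2, 4, 6, 8]) 44352000 :=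
  Bd.step (ql0_fin (hR.subR (by decide +kernel)) (wordsIn_sound γ (L := [0, 2, 4, 6]) (by decide +kernel))) (qbd1 hR) (by norm_num)

end Cfsg.Agent.HSC
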