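import Cfsg.Agent.Mult.Slices
import Cfsg.Agent.HSC.Cert
import Cfsg.Agent.HSC.MulPres

set_option autoImplicit false
set_option Elab.async false
set_option maxRecDepth 100000
set_option linter.all false

namespace Cfsg.Agent.HSC
open Cfsg.Agent.CGT

open Cfsg.Agent.Mult

noncomputable def u2_D : PC := ⟨2, 9, 2, 22,
  [[0x5100, 0x44, 0x110, 0x40, 0x100, 0x15400, 0x1000, 0x4000, 0x10000], [0, 0x14000, 0x410, 0x14040, 0x10100, 0x10400, 0x5000, 0x4000, 0x10000], [0, 0, 0x10000, 0x1040, 0x10100, 0x400, 0x11000, 0x14000, 0x10000], [0, 0, 0, 0x14000, 0x100, 0x4400, 0x1000, 0x4000, 0x10000], [0, 0, 0, 0, 0x10000, 0x400, 0x1000, 0x4000, 0x10000], [0, 0, 0, 0, 0, 0, 0x11000, 0x4000, 0x10000], [0, 0, 0, 0, 0, 0, 0x10000, 0x4000, 0x10000], [0, 0, 0, 0, 0, 0, 0, 0, 0x10000], [0, 0, 0, 0, 0, 0, 0, 0, 0]],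
  [0x30f, 0x3ff, 0x3cf, 0xc, 0, 3, 0, 0, 0],
  [(9, 1, 0x101), (9, 0x10, 0x4500), (9, 0x40, 0x4141), (9, 0x100, 0x15000), (9, 0x1000, 0x1000), (9, 0x4000, 0x11100), (9, 0x10000, 0x10000), (10, 0x4000, 0x4400), (11, 1, 0x14101), (11, 0x400, 0x14544), (11, 0x1000, 0x15040)], 19, 0x40000050302070008000100000000060000⟩
noncomputable def u2_ds : List (List ℕ) := [[4, 8, 6, 0, 4, 1, 2, 4, 3, 8, 0], [8, 3, 8, 4, 2, 6, 1, 4, 6, 8], [6, 1, 4, 1, 2, 4, 8, 4, 8, 0, 2, 8], [4, 0, 8, 4, 6, 2, 2, 4, 3, 0, 4, 3, 3, 8], [8, 6, 4, 2, 8, 6, 3, 3, 4, 2], [1, 2, 6, 1, 8, 2, 8, 1, 6, 2, 6, 4, 1], [4, 8, 8, 1, 8, 4, 2, 6, 8, 6, 2, 4, 8, 0], [8, 4, 8, 4, 3, 8, 6, 3, 3, 8, 2, 4], [2, 4, 8, 3, 0, 3, 1, 3, 8, 4, 3], [0, 8, 4, 6, 4, 2, 2, 8, 3], [8, 4, 1, 8, 6, 3, 1, 6, 1, 6, 1], [1, 4, 2, 2, 4, 1, 3, 1, 4, 8, 1, 8, 4, 0, 3, 2]]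
noncomputable def u2_c : Mult.Cert := ⟨45, 19, [[], [], [], [1], [2], [11], [21], [15], [25]],
  [([13, 51, 80], 1, 0xa57332c5205d044eb6000000)],
  [[0x30364000114f4, 0, 0, 0x105a408000004, 0x804e008800000, 0x41c488151801, 0x1e008800000, 0x50000000000, 0x10000000000], [0, 0x7c52d081e160b, 0, 0x401ad48032005, 0x400600010001, 0x2004160080008, 0, 0x4004940000000, 0x4940000000], [0, 0, 0x280ed00140308, 0, 0x81a5a0348600, 0x121000008, 0x6240048000, 0, 0x2000000000000], [0, 0, 0, 0x505eea8012005, 0x18008000000, 0x2000680011000, 0x1030008000000, 0x1008000000000, 0x8000000000], [0, 0, 0, 0, 0xaca0148600, 0x2004940008000, 0x6000000000, 0x804000000000, 0x800000000000], [0, 0, 0, 0, 0, 0x4860000008, 0x400f00010000, 0x4860000000, 0x800000000], [0, 0, 0, 0, 0, 0, 0xeb40148000, 0x400400000000, 0x400000000000], [0, 0, 0, 0, 0, 0, 0, 0x48e0000000,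 0x200000000], [0, 0, 0, 0, 0, 0, 0, 0, 0x900000000]]⟩
theorem u2_all : allB u2_D u2_c [.assoc 1 1 1, .assoc 4 4 4, .assoc 0x10 0x10 0x10, .assoc 0x40 0x40 0x40, .assoc 0x100 0x100 0x100, .assoc 0x1000 0x1000 0x1000, .assoc 0x4000 0x400 0x400, .assoc 0x4000 0x4000 1, .assoc 0x10000 0x10000 1, .assoc 0x40 0x40 1, .assoc 0x40 1 1, .assoc 0x100 0x100 1, .assoc 0x100 0x100 0x40, .assoc 0x100 0x40 0x40, .assoc 0x400 0x100 1, .assoc 0x400 0x100 0x40, .assoc 0x400 0x10 0x10, .assoc 0x1000 0x40 0x40, .assoc 0x4000 0x100 0x100, .assoc 0x400 0x400 4, .assoc 0x400 0x400 0x40, .assoc 0x100 4 4, .assoc 0x400 4 4, .assoc 0x1000 0x10 0x10, .assoc 0x100 4 1, .assoc 0x1000 0x10 1, .assoc 0x1000 4 4, .assoc 0x10 0x10 4, .assoc 0x40 0x10 1, .assoc 0x40 4 4, .assoc 0x10 0x10 1, .assoc 0x40 0x10 0x10, .assoc 0x10 4 4, .assoc 0x400 0x10 1, .assoc 4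 4 1, .assoc 0x400 0x40 0x10, .assoc 0x100 0x10 4, .assoc 0x40 0x40 0x10, .assoc 4 1 1, .assoc 0x40 0x10 4, .assoc 0x10 4 1, .fus 9 [4, 4] [6], .fus 9 [3, 3] [6], .fus 9 [1, 1] [6], .fus 9 [0, 0] [3, 4, 5], .fus 9 [1, 0] [0, 1, 3], .fus 9 [2, 2] [5, 6], .fus 9 [2, 1] [1, 2, 4], .fus 10 [7, 7] [], .fus 11 [10, 8] [8, 10], .fus 11 [9, 9] []] 7 m_ts u2_ds [3, 1, 2, 0, 21] [(9, [0x100, 1]), (20, [0x10]), (1, [0x1000, 0x40]), (0, [0x4000, 0x1104]), (5, [0x4400]), (2, [0x10000])] = true := by decide +kernel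
theorem u2_pb {G : Type*} [Group G] [Finite G] {φ : G →* Equiv.Perm ℕ} {γ : ℕ → G}
    (M : Model φ γ 7 m_ns m_ts) (hB : IsBase φ ⊤ [3, 1, 2, 0, 21]) (hN : Nat.card G = 44352000) : PBound G 2 1 :=
  pbound_all M hB hN (by decide +kernel) (by decide +kernel) u2_all
noncomputable def u3_D : PC := ⟨3, 2, 2, 16,
  [[0, 4], [0, 0]],
  [0, 0],
  [(2, 1, 2), (2, 4, 6), (3, 1, 5)], 5, 0x10001⟩
noncomputable def u3_ds : List (List ℕ) := [[1, 4, 8, 1, 4, 8, 0, 3, 1, 3], [2, 0, 4, 1, 2, 8, 6, 2, 6, 8, 4, 4, 2], [3, 4, 6, 2, 4, 1, 8, 4, 2, 4, 2, 4, 1, 2, 4], [1, 4, 8, 4, 3, 6, 2, 2, 0, 4, 3, 1, 3, 8]]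
noncomputable def u3_c : Mult.Cert := ⟨11, 14, [[], []],
  [],
  [[9, 3], [0, 1]]⟩
theorem u3_all : allB u3_D u3_c [.fus 2 [0, 0, 0] [], .fus 2 [1, 0] [0, 1], .fus 3 [2, 2, 2] []] 7 m_ts u3_ds [3, 1, 2, 0, 21] [(6, [4]), (0, [5])] = true := by decide +kernel
theorem u3_pb {G : Type*} [Group G] [Finite G] {φ : G →* Equiv.Perm ℕ} {γ : ℕ → G}
    (M : Model φ γ 7 m_ns m_ts) (hB : IsBase φ ⊤ [3, 1, 2, 0, 21]) (hN : Nat.card G = 44352000) : PBound G 3 0 :=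
  pbound_all M hB hN (by decide +kernel) (by decide +kernel) u3_all
noncomputable def u5_D : PC := ⟨5, 3, 3, 22,
  [[0, 0x48, 0x40], [0, 0, 0x40], [0, 0, 0]],
  [7, 0, 0],
  [(3, 1, 0x60), (3, 8, 1), (3, 0x40, 0x40)], 11, 0x1010002020100020000⟩
noncomputable def u5_ds : List (List ℕ) := [[4, 1, 3, 4, 3, 0, 2, 8, 4, 2, 8, 4, 0, 6, 4, 2], [4, 0, 8, 1, 4, 3, 6, 8, 4, 0], [1, 4, 8, 0, 4, 1, 3, 0, 4, 2, 6, 1, 8, 4], [0, 6, 8, 6, 3, 8, 3, 1, 2, 1, 4, 1, 3, 4]]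
noncomputable def u5_c : Mult.Cert := ⟨30, 19, [[], [], [1]],
  [],
  [[0x4f3, 0, 0x1a9], [0, 0x4ee, 0x12c], [0, 0, 0x9c4]]⟩
theorem u5_all : allB u5_D u5_c [.assoc 0x20 8 1, .fus 3 [2, 1] [1, 2], .fus 3 [2, 0] [0, 2], .fus 3 [1, 1, 1, 1, 1] [], .fus 3 [0, 0, 0, 0, 0] []] 7 m_ts u5_ds [3, 1, 2, 0, 21] [(0, [0x40, 1]), (1, [8])] = true := by decide +kernel
theorem u5_pb {G : Type*} [Group G] [Finite G] {φ : G →* Equiv.Perm ℕ} {γ : ℕ → G}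
    (M : Model φ γ 7 m_ns m_ts) (hB : IsBase φ ⊤ [3, 1, 2, 0, 21]) (hN : Nat.card G = 44352000) : PBound G 5 0 :=
  pbound_all M hB hN (by decide +kernel) (by decide +kernel) u5_all
theorem q_rels {φ} (C : Cert φ γ 7 m_ns m_ts [0, 2, 4, 6, 8] c_ls) : Holds (ext γ) qRR :=
  relsB_sound C.M C.base (by decide +kernel) (fun _ _ => trivial) (by decide +kernel)

end Cfsg.Agent.HSC
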