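import Cfsg.Agent.HSC.Cert
import Cfsg.Agent.Leech.Aut

set_option autoImplicit false
set_option Elab.async false
set_option maxRecDepth 100000
set_option linter.all false

namespace Cfsg.Agent.HSC
open Cfsg.Agent.CGT

noncomputable def cu_l0 : Level := ⟨21, [[0], [2], [4], [6], [8]], [4, 0, 2, 0, 4, 1, 3, 0, 4, 1, 0, 0], 0xfffffffffffffffffffffffff, 100⟩
noncomputable def cu_l1 : Level := ⟨0, [[0], [2], [4], [6]], [3, 0, 1, 2, 0, 1, 3, 0, 0, 2], 0xf733bbbdffbdcfff85dcbffbf, 77⟩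
noncomputable def cu_l2 : Level := ⟨66, [[0], [2], [4]], [0, 1, 0, 2, 0, 1, 2, 0, 1, 0], 0xf323bb345f9dcd7d855c33ebe, 60⟩
noncomputable def cu_l3 : Level := ⟨22, [[0, 3, 1, 3, 0], [2, 4, 2, 2, 4, 2, 1]], [], 0x40400200, 3⟩
noncomputable def cu_l4 : Level := ⟨9, [[0, 4]], [], 0x40000200, 2⟩
noncomputable def cu_l5 : Level := ⟨1, [[4, 2, 4, 3, 1], [2, 0, 2, 1, 3, 0]], [], 0x80000000800000000402, 4⟩
noncomputable def cu_l6 : Level := ⟨58, [[4, 3, 3, 1, 2, 4, 1]], [], 0x40000000400000000000000, 2⟩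
noncomputable def cu_l7 : Level := ⟨27, [[4, 2, 4, 2, 1, 2]], [], 0x8000000000008000000, 2⟩
noncomputable def cu_ls : List Level := [cu_l0, cu_l1, cu_l2, cu_l3, cu_l4, cu_l5, cu_l6, cu_l7]
noncomputable def cu_S : Srch := ⟨7, m_ts, (chainBase [] c_ls), [2, 8, 3, 8, 4, 8, 1, 4, 6, 1, 2, 2, 4], [2, 8, 3, 8, 4, 8, 1, 4, 6, 1, 2, 2, 4], [[4, 6, 2, 0, 8, 6, 3, 0, 4, 3, 0], [3, 6, 2, 6, 8, 0, 3, 8, 4, 6, 4, 6, 3], [8, 2, 6, 3, 3, 8, 1, 3, 4, 2, 1, 2, 1], [1, 6, 8, 4, 8, 6, 4, 2, 0, 2]]⟩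
noncomputable def cu_lk : List ℕ := [22, 1, 67, 23, 0, 2, 59]
noncomputable def cu_tl : List Level := [cu_l1, cu_l2, cu_l3, cu_l4, cu_l5, cu_l6, cu_l7]
noncomputable def cu_R0 : ℕ := 0x8690068014630301c2342000
theorem cu_l0_ok : (ptsOK 7 [] && (wordsIn [0, 2, 4, 6, 8] cu_l0.S && cu_l0.ok 7 m_ns m_ts [])) = true := by decide +kernel
theorem cu_l1_ok : (ptsOK 7 [21] && (wordsIn [0, 2, 4, 6, 8] cu_l1.S && cu_l1.ok 7 m_ns m_ts [21])) = true := by decide +kernel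
theorem cu_l2_ok : (ptsOK 7 [0, 21] && (wordsIn [0, 2, 4, 6, 8] cu_l2.S && cu_l2.ok 7 m_ns m_ts [0, 21])) = true := by decide +kernel
theorem cu_l3_ok : cu_l3.okT 7 m_ts [0, 2, 4, 6, 8] [66, 0, 21] (.cons [0] .nil (.cons [2] .nil .nil)) = true := by decide +kernel
theorem cu_l4_ok : cu_l4.okT 7 m_ts [0, 2, 4, 6, 8] [22, 66, 0, 21] (.cons [0] .nil .nil) = true := by decide +kernel
theorem cu_l5_ok : cu_l5.okT 7 m_ts [0, 2, 4, 6, 8] [9, 22, 66, 0, 21] (.cons [0] (.cons [2] .nil .nil) (.cons [2] .nil .nil)) = true := by decide +kernel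
theorem cu_l6_ok : cu_l6.okT 7 m_ts [0, 2, 4, 6, 8] [1, 9, 22, 66, 0, 21] (.cons [0] .nil .nil) = true := by decide +kernel
theorem cu_l7_ok : cu_l7.okT 7 m_ts [0, 2, 4, 6, 8] [58, 1, 9, 22, 66, 0, 21] (.cons [0] .nil .nil) = true := by decide +kernel
theorem cu_aux : cu_S.auxB [0, 2, 4, 6, 8] cu_ls [] (0 :: cu_lk) = true := by decide +kernel
theorem cu_cov : Nat.beq (Nat.land cu_l0.O (Srch.cover m_ns (invW cu_S.u') cu_R0 4)) cu_l0.O = true := by decide +kernel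
theorem cu_r0 : cu_S.run (.cons [] (.cons [] (.cons [] (.cons [] (.cons [] (.cons [] (.cons [] (.cons [] (.leaf 2000) .nil) .nil) (.cons [0] .nil (.cons [2] .nil (.cons [2, 0] (.cons [0] (.cons [] (.leaf 5) .nil) .nil) .nil)))) .nil) .nil) .nil) .nil) (.cons [8] .nil (.cons [1, 8] (.cons [4, 1, 4, 6] .nil .nil) (.cons [3, 8] .nil (.cons [2, 0, 8] (.cons [6, 4, 6] (.cons [0, 4, 2] (.cons [0] (.cons [] (.cons [] .nil (.cons [0] (.cons [0] (.cons [] (.leaf 0) .nil) .nil) (.cons [2] (.cons [] (.cons [] (.leaf 5) .nil) .nil) (.cons [2, 0] .nil .nil)))) .nil) .nil) .nil) .nil) (.cons [3, 0, 8] (.cons [3, 3, 1, 6] (.cons [4, 3, 4, 0] .nil .nil) .nil) (.cons [4, 0, 8] (.cons [3, 3, 1, 6] (.cons [0, 3, 4, 2] .nil .nil) .nil) (.cons [0, 4, 8] (.cons [4, 3, 1, 6] (.cons [1, 4, 2] .nil .nil) .nil) (.cons [1, 4, 8] (.cons [0, 4, 1, 6] (.cons [4, 2, 0] .nil .nil)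 .nil) (.cons [0, 3, 8] (.cons [6] (.cons [1] .nil .nil) .nil) (.cons [3, 3, 8] (.cons [0, 4, 1, 6] (.cons [4, 0] .nil .nil) .nil) (.cons [8, 1, 8] (.cons [0, 6, 0, 4, 6] (.cons [3, 1, 4, 2] .nil .nil) .nil) (.cons [3, 1, 4, 8] (.cons [4, 3, 6] .nil .nil) (.cons [8, 1, 4, 8] (.cons [0, 6, 3, 6] (.cons [2, 2, 0, 4, 2] .nil .nil) .nil) (.cons [4, 8, 4, 8] (.cons [6, 4, 3, 1, 6] (.cons [0, 4, 2, 0] (.cons [2] (.cons [] (.cons [] .nil (.cons [0] (.cons [0] (.cons [0] (.leaf 2) .nil) .nil) (.cons [2] (.cons [] (.cons [0] (.leaf 5) .nil) .nil) (.cons [2, 0] .nil .nil)))) .nil) .nil) .nil) .nil) (.cons [8, 4, 0, 8] (.cons [3, 1, 2, 6] (.cons [0, 2] (.cons [] (.cons [] (.cons [] (.cons [0] (.cons [] (.leaf 4) .nil) .nil) (.cons [0] .nil (.cons [2] .nil (.cons [2, 0] (.cons [] (.cons [] (.leaf 5) .nil) .nil) .nil)))) .nil) .nil) .nil) .nil) (.cons [1, 8, 0, 8]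 (.cons [0, 4, 0, 6] (.cons [4, 0, 3, 4, 2] (.cons [0] (.cons [] (.cons [] (.cons [] (.cons [] (.leaf 6) .nil) .nil) (.cons [0] .nil (.cons [2] .nil (.cons [2, 0] (.cons [0] (.cons [] (.leaf 5) .nil) .nil) .nil)))) .nil) .nil) .nil) .nil) (.cons [6, 8, 3, 8] (.cons [6, 2, 6] (.cons [3, 1, 4, 2] .nil .nil) .nil) (.cons [1, 8, 1, 8] (.cons [2, 0, 3, 6] (.cons [1, 2] .nil .nil) .nil) (.cons [3, 3, 8, 1, 8] .nil (.cons [1, 4, 8, 1, 8] .nil (.cons [2, 0, 8, 1, 8] .nil (.cons [8, 1, 8, 0, 8] .nil (.cons [0, 6, 0, 3, 8] .nil .nil)))))))))))))))))))))))) (⟨cu_l0.b, cu_l0.S, [], cu_R0, 0⟩ :: cu_tl) (0 :: cu_lk) Pd.nil 0 = true := by decide +kernel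
theorem cu_sound {G : Type*} [Group G] {φ : G →* Equiv.Perm ℕ} {γ : ℕ → G}
    (M : Model φ γ 7 m_ns m_ts) : ChainSound φ (gp γ [0, 2, 4, 6, 8]) 7 [] cu_ls :=
  ⟨Level.ok_sound' M cu_l0_ok,
   Level.ok_sound' M cu_l1_ok,
   Level.ok_sound' M cu_l2_ok,
   Level.okT_sound M cu_l3_ok,
   Level.okT_sound M cu_l4_ok,
   Level.okT_sound M cu_l5_ok,
   Level.okT_sound M cu_l6_ok,
   Level.okT_sound M cu_l7_ok, trivial⟩
theorem cu_cent {G : Type*} [Group G] {φ : G →* Equiv.Perm ℕ} {γ : ℕ → G}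
    (C : Cert φ γ 7 m_ns m_ts [0, 2, 4, 6, 8] c_ls) : Cent γ cu_S.u cu_S.Cl 4 :=
  have X := (C.rechain (cu_sound C.M) (by decide +kernel)).exact
  have A := Srch.auxB_sound (S := cu_S) C.M (K := ⊤) le_top rfl cu_aux
  have F := fun {tr : Tr} {R : ℕ} => Srch.found_of_run (S := cu_S) C.M C.base (by decide +kernel) X A (tr := tr) (R := R)
  Cent.of_found (S := cu_S) C.M X rfl (F cu_r0) cu_cov

end Cfsg.Agent.HSC
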