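import Cfsg.Agent.HSC.OutX
import Cfsg.Agent.HSC.OutU
import Cfsg.Agent.HSC.OutG
import Cfsg.Agent.CGT.Out2

set_option autoImplicit false
set_option Elab.async false
set_option maxRecDepth 100000
set_option linter.all false

namespace Cfsg.Agent.HSC
open Cfsg.Agent.CGT

noncomputable def od : OutD := ⟨7, m_ts, (chainBase [] c_ls), [0, 8, 3, 8, 4, 8, 2, 2, 4, 3, 4, 2, 1, 3, 0], [3, 8, 6, 4, 3, 0, 4, 2, 0, 3], [2, 1, 8, 3, 0, 4, 6], [3, 8, 6, 4, 3, 0, 4, 2, 0, 3], 11, 3, 1, 1, 4, [1, 2], [[3, 8, 2, 4, 3, 6, 4, 1, 4, 1, 2], [2, 6, 4, 0, 3, 1, 3, 0], [4, 6, 1, 8, 3, 3, 8, 0, 6, 3, 4, 3, 4, 3, 1], [3, 8, 4, 8, 2, 8, 6, 4, 1, 2, 4, 0, 3, 0]], [[0, 2, 4, 0, 2, 4, 0, 2, 4, 0, 2, 4, 0, 2, 4, 0, 2, 4], [0, 5, 0, 5, 0, 5, 0, 5, 0, 5, 0, 5, 0, 5, 0, 5]], [[[0, 8, 3, 8, 4, 8,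 2, 2, 4, 3, 4, 2, 1, 3, 0], [3, 8, 6, 4, 3, 0, 4, 2, 0, 3], [2, 1, 8, 3, 0, 4, 6]], [[1, 6, 1, 8, 0, 8, 2, 0, 6, 0, 3, 4], [3, 8, 6, 4, 3, 0, 4, 2, 0, 3], [8, 1, 2, 8, 6, 0, 4, 6, 2, 1, 4, 2]]]⟩
theorem od_b : od.basic 44352000 21 = true := by decide +kernel
theorem od_c : conjB 7 m_ts (chainBase [] c_ls) [8] od.u cu_S.u od.Cl cu_S.Cl = true := by decide +kernel
theorem od_k1 : od.cands 1 ([] :: od.Cl) [[0, 1, 3, 1, 1], [1, 1, 1, 1, 1], [1, 1, 1, 1, 1], [1, 1, 1, 1, 1], [1, 1, 1, 1, 1]] = true := by decide +kernel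
theorem od_k2 : od.cands 2 ([] :: od.Cl) [[2561, 1, 1, 1, 1], [1, 1, 1, 1, 2561], [1, 1, 1, 1, 1], [2, 1, 3, 1, 1], [1, 1, 1, 1, 1]] = true := by decide +kernel
noncomputable def bW : List (List ℕ) := [[4, 2, 0, 2, 4, 6, 3, 4, 1, 2], [6, 0, 6, 1, 4, 2, 2, 4, 1, 3, 3], [3, 0, 2, 1, 4, 3, 3, 0], [0, 6, 4, 6, 2, 1, 2, 4, 3, 3, 1], [1, 4, 8, 1, 3, 3, 6, 2, 2, 4, 2, 1, 2, 1]]
theorem od_s : od.second bW [6, 4, 8, 3, 3, 8, 4, 3, 1, 4, 0, 3, 3] [1, 6, 1, 8, 0, 8, 2, 0, 6, 0, 3, 4] [8, 1, 2, 8, 6, 0, 4, 6, 2, 1, 4, 2] = true := by decide +kernel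
theorem od_o : od.outer [1, 6, 1, 8, 0, 8, 2, 0, 6, 0, 3, 4] [8, 1, 2, 8, 6, 0, 4, 6, 2, 1, 4, 2] ([] :: od.Cl) [[1, 1, 1, 1, 1], [1, 1, 1, 1, 1], [1, 1, 1, 1, 1], [1, 1, 1, 1, 1], [1, 1, 1, 1, 1]] = true := by decide +kernel
theorem out_card {G : Type*} [Group G] {φ : G →* Equiv.Perm ℕ} {γ : ℕ → G} (C : Cert φ γ 7 m_ns m_ts [0, 2, 4, 6, 8] c_ls)
    (hN : Nat.card G = 44352000) (β : MulAut G) (hβ : ∀ j, β (γ j) = wg γ bW j) : Nat.card (Cfsg.Out G) = 2 :=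
  haveI := C.fin
  OutD.out_two (D := od) C.M C.base hN (by norm_num [od]) od_b (cx_cent C) ((cu_cent C).conj C.M C.base od_c)
    (by
    intro k hk
    simp only [od, List.mem_cons, List.not_mem_nil, or_false] at hk
    rcases hk with rfl | rfl
    exacts [OutD.cands_sound C.M C.base od_b od_k1, OutD.cands_sound C.M C.base od_b od_k2]) (g_top C) rfl β hβ od_s od_o
open Cfsg.Agent.Leech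
noncomputable def nn : Net := Net.cons 64 0x1ce9320334dd0240 <|
  Net.cons 32 0x998c6140000000006f42a020 <|
  Net.cons 16 0x5880000058a80000410400003218 <|
  Net.cons 8 0x9800a0004a0058000400c8009400d2 <|
  Net.cons 4 0xa00000a0a0c000c0000000a080804 <|
  Net.cons 2 0x2002220022000000202200000200220 <|
  Net.cons 1 0x1051145041150000404400014104441 <|
  Net.cons 2 0x2132223320230222202213300222031 <|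
  Net.cons 4 0x40a00060a010c0f080400000a08060b <|
  Net.cons 8 0x9800a9004a0058004200cd009500d2 <|
  Net.cons 16 0x598800007ca80000410400003218 <|
  Net.cons 32 0x99cc7340000000006f52a120 <|
  Net.cons 64 0x1ce9320334dd0240 <|
  Net.nil
noncomputable def nA : List (List ℤ) := [[0, -8, 0, 0, 0, 0, 0, 0, 0, 0, 0, 0, 0, 0, 0, 0, 0, 0, 0, 0, 0, 0, 0, 0], [-8, 0, 0, 0, 0, 0, 0, 0, 0, 0, 0, 0, 0, 0, 0, 0, 0, 0, 0, 0, 0, 0, 0, 0], [0, 0, 0, 0, 0, 0, 0, 0, 0, 0, 0, 0, 0, 0, 0, 0, 0, 0, 0, 0, 0, 0, 0, -8], [0, 0, 0, 0, 0, 0, 0, 0, 0, 0, 0, 0, -8, 0, 0, 0, 0, 0, 0, 0, 0, 0, 0, 0], [0, 0, 0, 0, 0, 0, 0, 0, 0, 0, 0, 0, 0, 0, 0, 0, -8, 0, 0, 0, 0, 0, 0, 0], [0, 0, 0, 0, 0, 0, 0, 0, 0, 0, 0, 0, 0, 0, 0, 0, 0, 0, -8, 0, 0, 0, 0, 0], [0, 0, 0, 0, 0, 0, 0, 0, 0, 0, -8, 0, 0, 0, 0,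 0, 0, 0, 0, 0, 0, 0, 0, 0], [0, 0, 0, 0, 0, 0, 0, 0, 0, 0, 0, 0, 0, 0, 0, 0, 0, 0, 0, 0, -8, 0, 0, 0], [0, 0, 0, 0, 0, 0, 0, 0, 0, 0, 0, 0, 0, 0, -8, 0, 0, 0, 0, 0, 0, 0, 0, 0], [0, 0, 0, 0, 0, 0, 0, 0, 0, 0, 0, 0, 0, 0, 0, 0, 0, 0, 0, 0, 0, -8, 0, 0], [0, 0, 0, 0, 0, 0, -8, 0, 0, 0, 0, 0, 0, 0, 0, 0, 0, 0, 0, 0, 0, 0, 0, 0], [0, 0, 0, 0, 0, 0, 0, 0, 0, 0, 0, 0, 0, 0, 0, 0, 0, -8, 0, 0, 0, 0, 0, 0], [0, 0, 0, -8, 0, 0, 0, 0, 0, 0, 0, 0, 0, 0, 0, 0, 0, 0, 0, 0, 0, 0, 0, 0], [0, 0, 0, 0, 0, 0, 0, 0, 0, 0, 0, 0, 0, 0, 0, 0, 0, 0, 0, 0, 0, 0, -8, 0], [0, 0, 0, 0, 0, 0, 0, 0, -8, 0, 0, 0, 0, 0, 0, 0, 0, 0, 0, 0, 0, 0, 0, 0], [0, 0, 0, 0, 0, 0, 0, 0, 0, 0, 0, 0, 0, 0, 0, 0, 0, 0, 0, -8, 0, 0, 0, 0], [0, 0, 0, 0, -8, 0, 0, 0, 0, 0, 0, 0, 0, 0, 0, 0, 0, 0, 0, 0, 0, 0, 0,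 0], [0, 0, 0, 0, 0, 0, 0, 0, 0, 0, 0, -8, 0, 0, 0, 0, 0, 0, 0, 0, 0, 0, 0, 0], [0, 0, 0, 0, 0, -8, 0, 0, 0, 0, 0, 0, 0, 0, 0, 0, 0, 0, 0, 0, 0, 0, 0, 0], [0, 0, 0, 0, 0, 0, 0, 0, 0, 0, 0, 0, 0, 0, 0, -8, 0, 0, 0, 0, 0, 0, 0, 0], [0, 0, 0, 0, 0, 0, 0, -8, 0, 0, 0, 0, 0, 0, 0, 0, 0, 0, 0, 0, 0, 0, 0, 0], [0, 0, 0, 0, 0, 0, 0, 0, 0, -8, 0, 0, 0, 0, 0, 0, 0, 0, 0, 0, 0, 0, 0, 0], [0, 0, 0, 0, 0, 0, 0, 0, 0, 0, 0, 0, 0, -8, 0, 0, 0, 0, 0, 0, 0, 0, 0, 0], [0, 0, -8, 0, 0, 0, 0, 0, 0, 0, 0, 0, 0, 0, 0, 0, 0, 0, 0, 0, 0, 0, 0, 0]]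
theorem out_eq : Nat.card (Cfsg.Out Cfsg.Spor.HS) = 2 := by
  obtain ⟨φ, C, hφ⟩ := cert'
  obtain ⟨β, hβ⟩ := MD.exists_aut_of md_ok md_s HS_eq (Or.inl (Subtype.ext ((coe_lv (by decide +kernel)).trans (by decide +kernel)))) C hφ (A := nA) (rows := [4173156, 4851789, 13544626, 10259643, 6000605, 9205515, 1500623, 2237514, 15123824, 3970491, 3897815, 10934600, 12207785, 7438799, 7661097, 224905, 11466465, 9118134, 7785066, 3803909, 3480305, 112663, 7117659, 16507022]) (nn := nn) (W := bW)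
    (by decide +kernel) (by decide +kernel) (by decide +kernel)
  exact out_card C card_eq β hβ

end Cfsg.Agent.HSC
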