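import Cfsg.Agent.HSC.Cert
import Cfsg.Agent.Leech.Aut

set_option autoImplicit false
set_option Elab.async false
set_option maxRecDepth 100000
set_option linter.all false

namespace Cfsg.Agent.HSC
open Cfsg.Agent.CGT

noncomputable def cx_l0 : Level := ⟨21, [[0], [2], [4], [6], [8]], [4, 0, 2, 0, 4, 1, 3, 0, 4, 1, 0, 0], 0xfffffffffffffffffffffffff, 100⟩
noncomputable def cx_l1 : Level := ⟨0, [[0], [2], [4], [6]], [3, 0, 1, 2, 0, 1, 3, 0, 0, 2], 0xf733bbbdffbdcfff85dcbffbf, 77⟩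
noncomputable def cx_l2 : Level := ⟨80, [[0], [2], [4]], [0, 1, 0, 2, 1, 0, 1, 2, 1], 0xf323bb345f9dcd7d855c33ebe, 60⟩
noncomputable def cx_l3 : Level := ⟨77, [[3, 0, 2], [1, 2, 4, 3, 0], [4, 3, 4, 0, 2], [3, 1, 4, 0, 2]], [], 0x3018234528cc469840c20636, 32⟩
noncomputable def cx_l4 : Level := ⟨69, [[4, 3, 4, 0, 4, 2]], [], 0x804000200000000000000000, 3⟩
noncomputable def cx_ls : List Level := [cx_l0, cx_l1, cx_l2, cx_l3, cx_l4]
noncomputable def cx_S : Srch := ⟨7, m_ts, (chainBase [] c_ls), [0, 8, 3, 8, 4, 8, 2, 2, 4, 3, 4, 2, 1, 3, 0], [0, 8, 3, 8, 4, 8, 2, 2, 4, 3, 4, 2, 1, 3, 0], []⟩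
noncomputable def cx_lk : List ℕ := [22, 1, 81, 78]
noncomputable def cx_tl : List Level := [cx_l1, cx_l2, cx_l3, cx_l4]
noncomputable def cx_R0 : ℕ := 0x868000000002000504200040
theorem cx_l0_ok : (ptsOK 7 [] && (wordsIn [0, 2, 4, 6, 8] cx_l0.S && cx_l0.ok 7 m_ns m_ts [])) = true := by decide +kernel
theorem cx_l1_ok : (ptsOK 7 [21] && (wordsIn [0, 2, 4, 6, 8] cx_l1.S && cx_l1.ok 7 m_ns m_ts [21])) = true := by decide +kernel
theorem cx_l2_ok : (ptsOK 7 [0, 21] && (wordsIn [0, 2, 4, 6, 8] cx_l2.S && cx_l2.ok 7 m_ns m_ts [0, 21])) = true := by decide +kernel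
theorem cx_l3_ok : cx_l3.okT 7 m_ts [0, 2, 4, 6, 8] [80, 0, 21] (.cons [0] (.cons [2] .nil (.cons [4] (.cons [0] .nil (.cons [1] (.cons [6] .nil .nil) (.cons [2] .nil .nil))) (.cons [6] (.cons [0] .nil (.cons [1] .nil (.cons [2] .nil .nil))) .nil))) (.cons [1] (.cons [2] (.cons [6] (.cons [4] .nil .nil) .nil) (.cons [4] (.cons [2] .nil .nil) (.cons [6] (.cons [2] .nil (.cons [4] .nil .nil)) .nil))) (.cons [2] (.cons [4] .nil .nil) (.cons [4] (.cons [0] (.cons [2] .nil (.cons [4] .nil (.cons [6] .nil .nil))) .nil) (.cons [6] (.cons [1] .nil (.cons [2] .nil (.cons [4] .nil .nil))) .nil))))) = true := by decide +kernel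
theorem cx_l4_ok : cx_l4.okT 7 m_ts [0, 2, 4, 6, 8] [77, 80, 0, 21] (.cons [0] .nil (.cons [1] .nil .nil)) = true := by decide +kernel
theorem cx_aux : cx_S.auxB [0, 2, 4, 6, 8] cx_ls [] (0 :: cx_lk) = true := by decide +kernel
theorem cx_cov : Nat.beq (Nat.land cx_l0.O (Srch.cover m_ns (invW cx_S.u') cx_R0 10)) cx_l0.O = true := by decide +kernel
theorem cx_r0 : cx_S.run (.cons [] (.cons [] (.cons [] (.cons [] (.cons [] (.leaf 2000) .nil) .nil) .nil) .nil) (.cons [8] .nil (.cons [0, 8] (.cons [3, 3, 1, 6] (.cons [0, 4, 2, 4, 3] (.cons [2, 4, 0] .nil .nil) .nil) .nil) (.cons [3, 8] .nil (.cons [4, 8] (.cons [1, 4, 3, 6] (.cons [2] (.cons [0, 4, 0] .nil .nil) .nil) .nil) (.cons [2, 0, 8] (.cons [6, 3, 6] (.cons [1, 3, 4, 0] .nil .nil) .nil) (.cons [3, 0, 8] (.cons [2, 6] (.cons [4, 3, 1] .nil .nil) .nil) (.cons [3, 3, 8] (.cons [6, 3, 6] .nil .nil) (.cons [8, 1, 8] (.cons [2, 4,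 3, 6] .nil .nil) (.cons [0, 8, 1, 8] .nil .nil)))))))))) (⟨cx_l0.b, cx_l0.S, [], cx_R0, 0⟩ :: cx_tl) (0 :: cx_lk) Pd.nil 0 = true := by decide +kernel
theorem cx_sound {G : Type*} [Group G] {φ : G →* Equiv.Perm ℕ} {γ : ℕ → G}
    (M : Model φ γ 7 m_ns m_ts) : ChainSound φ (gp γ [0, 2, 4, 6, 8]) 7 [] cx_ls :=
  ⟨Level.ok_sound' M cx_l0_ok,
   Level.ok_sound' M cx_l1_ok,
   Level.ok_sound' M cx_l2_ok,
   Level.okT_sound M cx_l3_ok,
   Level.okT_sound M cx_l4_ok, trivial⟩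
theorem cx_cent {G : Type*} [Group G] {φ : G →* Equiv.Perm ℕ} {γ : ℕ → G}
    (C : Cert φ γ 7 m_ns m_ts [0, 2, 4, 6, 8] c_ls) : Cent γ cx_S.u cx_S.Cl 10 :=
  have X := (C.rechain (cx_sound C.M) (by decide +kernel)).exact
  have A := Srch.auxB_sound (S := cx_S) C.M (K := ⊤) le_top rfl cx_aux
  have F := fun {tr : Tr} {R : ℕ} => Srch.found_of_run (S := cx_S) C.M C.base (by decide +kernel) X A (tr := tr) (R := R)
  Cent.of_found (S := cx_S) C.M X rfl (F cx_r0) cx_cov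

end Cfsg.Agent.HSC
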